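import Cfsg.Agent.Fz.Pc

/-! Generated by tools/fz. -/

set_option autoImplicit false

namespace CF.Fz

open CF.Comp

/-- tables of a group of order 128 -/
def MI : Pc := ⟨7, 127, 0x7157776f7f7f39a9bfbfaf9fdd57dbd3cfff8eeb6cebe3f7d794f573ffe7d3da5af97ef1edf51d3c7efbf0fe868e1f3d79657737ee7d7b33b99fff2e9dd85fcbf38f7e8c6f64fbc3b756d6f17befc7937b58fd76e1cda59c3e7af3e0d6c60f1d39715937f66d7b772d99ff3ead9bd74ffb934efd8be77ccba376d512fd63dfa752995ef16ed1ad549f3876ebd0ae478c1b35694f17b6ec79732689df7e2c99d2c7ebb30e7c892374db83365470f96bcf8712285cf566c18d0c1e3a72e3c082070d19316131d6756b776f19e93ebdab97cd779b52cdfb86fb4cab62f5d39ce553bf66d1de52e95eb16cf719346edbb07f848a172d5925f635ea756b13f91efd2a95c87f8b728d7a847f44bb42b552dee15baf46917f50ed56a14ca798366ad3a057c40b15295119b6f46973670dd97e3ca993c76fbb124cf983f75c8b2274d11aed439f26509d56e14e912c569b3066cb902f45881325490f96b4e8716306c95e7c2891c2e7ab320c788133549b02345078e94b8f0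6102c54e546810c0e1a3262c380030509112141f05573676f5f7928bdbba78ffd175ad1cbf79ecb2c6ae1f3df84d5337ee5d7d24ad93e70eff1152c5ebb71fc82860f1d39e47533e66d5b73389dfb268df81f4af18b769c4f247ac1b35ec6d13b6ec5977348dd3660cfa1942e5ab361d4c2070d1931d835f2656b576d18fd3aa58bf70f7a914af59bc73c4aa172dd02dd235ea556914ed12e50af50972856ab51ac43840b1529ce15b2e469536608dd7a2489f2876ab10a749903345a81325c60d92b4e8516204cd526408f08162a52a341800305091121b0d47163674f59683cb9a387ed371a50c9f396db0c2a60f1db8cc5133e64d5d642c91e306ef311244e9b317d8082070d19a4f431e2654b53781cf92285e83f0a708972945f043a40b15acec11b2e44957740cd16204ea390264a932155c00305091198b4f06163474d587c38a183e72f3a1048f193d71c0a2070d90acd031e24549546c10e102e529320468b112d41800305098e94b0e0614346485c782081e2a72a3008709113141a00305868c90b0e04142444c506000e0a1222428301010101010101, 0xe1c79f2efdba75f7ebc79fbf3f7fdfbb6ecd1a756bcb933e6c78b0e0b166ddabb72f5fa74a851af5aa559b327ce912654b8f1a2c4870a0c06ad1b3764cd8b078f5fbe74edcb858b572f56a94a84a913a646890a03e78e1d346cc982c5ca94244c8901c3c60d16284880e182840608080,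 0x4054584040400030203020200000101018100000000a0808000000000404000000000002000000000000⟩

instance MI_ok : MI.OK := ⟨by decide +kernel⟩

namespace MI

noncomputable def T : El MI := El.gen 6
noncomputable def W : El MI := El.gen 5
noncomputable def P : El MI := El.gen 4
noncomputable def X : El MI := El.gen 3
noncomputable def E : El MI := El.gen 2
noncomputable def B : El MI := El.gen 1
noncomputable def C : El MI := El.gen 0

theorem rel {Γ : Type*} [Group Γ] {t w p x e b c : Γ}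
    (h : c * c = 1 ∧ b * b = 1 ∧ cj c b = c ∧ e * e = 1 ∧ cj c e = c ∧ cj b e = b ∧ x * x = 1 ∧ cj c x = c ∧ cj b x = b ∧ cj e x = e * c ∧ p * p = 1 ∧ cj c p = c ∧ cj b p = b * c ∧ cj e p = e ∧ cj x p = x ∧ w * w = 1 ∧ cj c w = c ∧ cj b w = b ∧ cj e w = e * b ∧ cj x w = x ∧ cj p w = p * x ∧ t * t = 1 ∧ cj c t = c ∧ cj b t = b ∧ cj e t = e ∧ cj x t = x * (b * c) ∧ cj p t = p * (e * c) ∧ cj w t = w) :
    MI.Rel (nt [c, b, e, x, p, w, t]) := by
  obtain ⟨h0_0, h1_1, h1_0, h2_2, h2_0, h2_1, h3_3, h3_0, h3_1, h3_2, h4_4, h4_0, h4_1, h4_2, h4_3, h5_5, h5_0, h5_1, h5_2, h5_3, h5_4, h6_6, h6_0, h6_1, h6_2, h6_3, h6_4, h6_5⟩ := h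
  refine Pc.rel_of fun i hi j hj => ?_
  change i < 7 at hi
  interval_cases i <;> interval_cases j
  · exact h0_0
  · exact (h1_0.trans (by rw [mul_one]) : cj c b = c * 1)
  · exact h1_1
  · exact (h2_0.trans (by rw [mul_one]) : cj c e = c * 1)
  · exact (h2_1.trans (by rw [mul_one]) : cj b e = b * 1)
  · exact h2_2
  · exact (h3_0.trans (by rw [mul_one]) : cj c x = c * 1)
  · exact (h3_1.trans (by rw [mul_one]) : cj b x = b * 1)
  · exact (h3_2.trans (by rw [mul_one]) : cj e x = e * (c * 1))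
  · exact h3_3
  · exact (h4_0.trans (by rw [mul_one]) : cj c p = c * 1)
  · exact (h4_1.trans (by rw [mul_one]) : cj b p = b * (c * 1))
  · exact (h4_2.trans (by rw [mul_one]) : cj e p = e * 1)
  · exact (h4_3.trans (by rw [mul_one]) : cj x p = x * 1)
  · exact h4_4
  · exact (h5_0.trans (by rw [mul_one]) : cj c w = c * 1)
  · exact (h5_1.trans (by rw [mul_one]) : cj b w = b * 1)
  · exact (h5_2.trans (by rw [mul_one]) : cj e w = e * (b * 1))
  · exact (h5_3.trans (by rw [mul_one]) : cj x w = x * 1)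
  · exact (h5_4.trans (by rw [mul_one]) : cj p w = p * (x * 1))
  · exact h5_5
  · exact (h6_0.trans (by rw [mul_one]) : cj c t = c * 1)
  · exact (h6_1.trans (by rw [mul_one]) : cj b t = b * 1)
  · exact (h6_2.trans (by rw [mul_one]) : cj e t = e * 1)
  · exact (h6_3.trans (by rw [mul_one]) : cj x t = x * (b * (c * 1)))
  · exact (h6_4.trans (by rw [mul_one]) : cj p t = p * (e * (c * 1)))
  · exact (h6_5.trans (by rw [mul_one]) : cj w t = w * 1)
  · exact h6_6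

theorem ex {Γ : Type*} [Group Γ] {t w p x e b c : Γ}
    (h : c * c = 1 ∧ b * b = 1 ∧ cj c b = c ∧ e * e = 1 ∧ cj c e = c ∧ cj b e = b ∧ x * x = 1 ∧ cj c x = c ∧ cj b x = b ∧ cj e x = e * c ∧ p * p = 1 ∧ cj c p = c ∧ cj b p = b * c ∧ cj e p = e ∧ cj x p = x ∧ w * w = 1 ∧ cj c w = c ∧ cj b w = b ∧ cj e w = e * b ∧ cj x w = x ∧ cj p w = p * x ∧ t * t = 1 ∧ cj c t = c ∧ cj b t = b ∧ cj e t = e ∧ cj x t = x * (b * c) ∧ cj p t = p * (e * c) ∧ cj w t = w) :
    ∃ φ : El MI  →* Γ, φ T = t ∧ φ W = w ∧ φ P = p ∧ φ X = x ∧ φ E = e ∧ φ B = b ∧ φ C = c :=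
  ⟨El.lift (rel h), El.lift_gen (rel h) (i := 6) (by decide), El.lift_gen (rel h) (i := 5) (by decide), El.lift_gen (rel h) (i := 4) (by decide), El.lift_gen (rel h) (i := 3) (by decide), El.lift_gen (rel h) (i := 2) (by decide), El.lift_gen (rel h) (i := 1) (by decide), El.lift_gen (rel h) (i := 0) (by decide)⟩

/-- substitution -/
noncomputable def sb {Ξ : Type*} [Monoid Ξ] (T' W' P' X' E' B' C' : Ξ) (u : El MI) : Ξ := El.sub [C', B', E', X', P', W', T'] u

theorem actM {Γ Ξ : Type*} [Group Γ] [Group Ξ] (φ : El MI  →* Γ) (ψ : Ξ  →* Γ) (γ : Γ) (m : ℕ) {T' W' P' X' E' B' C' : Ξ}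
    (ht : tb m 6 = true → cj (φ T) γ = ψ T') (hw : tb m 5 = true → cj (φ W) γ = ψ W') (hp : tb m 4 = true → cj (φ P) γ = ψ P') (hx : tb m 3 = true → cj (φ X) γ = ψ X') (he : tb m 2 = true → cj (φ E) γ = ψ E') (hb : tb m 1 = true → cj (φ B) γ = ψ B') (hc : tb m 0 = true → cj (φ C) γ = ψ C') {u : El MI} (hu : El.In m u) :
    cj (φ u) γ = ψ (sb T' W' P' X' E' B' C' u) := by
  refine El.actM φ ψ γ _ m (fun i hi => ?_) hu
  change i < 7 at hi
  interval_cases i <;> assumption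

theorem act {Γ Ξ : Type*} [Group Γ] [Group Ξ] (φ : El MI  →* Γ) (ψ : Ξ  →* Γ) (γ : Γ) {T' W' P' X' E' B' C' : Ξ}
    (ht : cj (φ T) γ = ψ T') (hw : cj (φ W) γ = ψ W') (hp : cj (φ P) γ = ψ P') (hx : cj (φ X) γ = ψ X') (he : cj (φ E) γ = ψ E') (hb : cj (φ B) γ = ψ B') (hc : cj (φ C) γ = ψ C') (u : El MI) :
    cj (φ u) γ = ψ (sb T' W' P' X' E' B' C' u) := by
  refine El.act φ ψ γ _ (fun i hi => ?_) u
  change i < 7 at hi
  interval_cases i <;> assumption

theorem memM {Γ : Type*} [Group Γ] (φ : El MI  →* Γ) {Λ : Subgroup Γ} (m : ℕ)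
    (ht : tb m 6 = true → φ T ∈ Λ) (hw : tb m 5 = true → φ W ∈ Λ) (hp : tb m 4 = true → φ P ∈ Λ) (hx : tb m 3 = true → φ X ∈ Λ) (he : tb m 2 = true → φ E ∈ Λ) (hb : tb m 1 = true → φ B ∈ Λ) (hc : tb m 0 = true → φ C ∈ Λ) {u : El MI} (hu : El.In m u) : φ u ∈ Λ := by
  refine El.memM φ m (fun i hi => ?_) hu
  change i < 7 at hi
  interval_cases i <;> assumption

theorem mem {Γ : Type*} [Group Γ] (φ : El MI  →* Γ) {Λ : Subgroup Γ}
    (ht : φ T ∈ Λ) (hw : φ W ∈ Λ) (hp : φ P ∈ Λ) (hx : φ X ∈ Λ) (he : φ E ∈ Λ) (hb : φ B ∈ Λ) (hc : φ C ∈ Λ) (u : El MI) : φ u ∈ Λ := by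
  refine El.mem φ (fun i hi => ?_) u
  change i < 7 at hi
  interval_cases i <;> assumption

theorem inj {Γ : Type*} [Group Γ] (φ : El MI  →* Γ)
    (h0 : φ C ≠ 1) : Function.Injective φ := by
  refine El.inj φ [C] (by decide +kernel) fun z hz => ?_
  simp only [List.mem_cons, List.not_mem_nil, or_false] at hz
  rcases hz with rfl <;> simpa only [map_mul]

end MI

end CF.Fz
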