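import Cfsg.Agent.Fz.Q

/-! Generated by tools/fz. -/

set_option autoImplicit false

namespace CF.Fz

open CF.Comp

/-- tables of a group of order 32 -/
def MQ : Pc := ⟨5, 31, 0x65f7df36dae7dd5cff8fa63dd4cff9d225ec6d71eef0a8735937e75b1fd2a5c9d8de85e42d51eef190b5684c39ace00c5251e1d6d774ca63fc54bd9f221cdc8de95604e42f616ad1a03149b3c6535dc221e8d09c95600c59ace11494600e2928c1041041, 0xe77dfce37ab5e959ca307b9ac5a928398a418820, 0x514410008208000104000002000000⟩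

instance MQ_ok : MQ.OK := ⟨by decide +kernel⟩

namespace MQ

noncomputable def T : El MQ := El.gen 4
noncomputable def Q : El MQ := El.gen 3
noncomputable def P : El MQ := El.gen 2
noncomputable def W : El MQ := El.gen 1
noncomputable def E : El MQ := El.gen 0

theorem rel {Γ : Type*} [Group Γ] {t q p w e : Γ}
    (h : e * e = 1 ∧ w * w = 1 ∧ cj e w = e ∧ p * p = 1 ∧ cj e p = e ∧ cj w p = w ∧ q * q = 1 ∧ cj e q = e ∧ cj w q = w ∧ cj p q = p ∧ t * t = 1 ∧ cj e t = e ∧ cj w t = w ∧ cj p t = p * e ∧ cj q t = q * w) :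
    MQ.Rel (nt [e, w, p, q, t]) := by
  obtain ⟨h0_0, h1_1, h1_0, h2_2, h2_0, h2_1, h3_3, h3_0, h3_1, h3_2, h4_4, h4_0, h4_1, h4_2, h4_3⟩ := h
  refine Pc.rel_of fun i hi j hj => ?_
  change i < 5 at hi
  interval_cases i <;> interval_cases j
  · exact h0_0
  · exact (h1_0.trans (by rw [mul_one]) : cj e w = e * 1)
  · exact h1_1
  · exact (h2_0.trans (by rw [mul_one]) : cj e p = e * 1)
  · exact (h2_1.trans (by rw [mul_one]) : cj w p = w * 1)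
  · exact h2_2
  · exact (h3_0.trans (by rw [mul_one]) : cj e q = e * 1)
  · exact (h3_1.trans (by rw [mul_one]) : cj w q = w * 1)
  · exact (h3_2.trans (by rw [mul_one]) : cj p q = p * 1)
  · exact h3_3
  · exact (h4_0.trans (by rw [mul_one]) : cj e t = e * 1)
  · exact (h4_1.trans (by rw [mul_one]) : cj w t = w * 1)
  · exact (h4_2.trans (by rw [mul_one]) : cj p t = p * (e * 1))
  · exact (h4_3.trans (by rw [mul_one]) : cj q t = q * (w * 1))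
  · exact h4_4

theorem ex {Γ : Type*} [Group Γ] {t q p w e : Γ}
    (h : e * e = 1 ∧ w * w = 1 ∧ cj e w = e ∧ p * p = 1 ∧ cj e p = e ∧ cj w p = w ∧ q * q = 1 ∧ cj e q = e ∧ cj w q = w ∧ cj p q = p ∧ t * t = 1 ∧ cj e t = e ∧ cj w t = w ∧ cj p t = p * e ∧ cj q t = q * w) :
    ∃ φ : El MQ  →* Γ, φ T = t ∧ φ Q = q ∧ φ P = p ∧ φ W = w ∧ φ E = e :=
  ⟨El.lift (rel h), El.lift_gen (rel h) (i := 4) (by decide), El.lift_gen (rel h) (i := 3) (by decide), El.lift_gen (rel h) (i := 2) (by decide), El.lift_gen (rel h) (i := 1) (by decide), El.lift_gen (rel h) (i := 0) (by decide)⟩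

/-- substitution -/
noncomputable def sb {Ξ : Type*} [Monoid Ξ] (T' Q' P' W' E' : Ξ) (u : El MQ) : Ξ := El.sub [E', W', P', Q', T'] u

theorem actM {Γ Ξ : Type*} [Group Γ] [Group Ξ] (φ : El MQ  →* Γ) (ψ : Ξ  →* Γ) (γ : Γ) (m : ℕ) {T' Q' P' W' E' : Ξ}
    (ht : tb m 4 = true → cj (φ T) γ = ψ T') (hq : tb m 3 = true → cj (φ Q) γ = ψ Q') (hp : tb m 2 = true → cj (φ P) γ = ψ P') (hw : tb m 1 = true → cj (φ W) γ = ψ W') (he : tb m 0 = true → cj (φ E) γ = ψ E') {u : El MQ} (hu : El.In m u) :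
    cj (φ u) γ = ψ (sb T' Q' P' W' E' u) := by
  refine El.actM φ ψ γ _ m (fun i hi => ?_) hu
  change i < 5 at hi
  interval_cases i <;> assumption

theorem act {Γ Ξ : Type*} [Group Γ] [Group Ξ] (φ : El MQ  →* Γ) (ψ : Ξ  →* Γ) (γ : Γ) {T' Q' P' W' E' : Ξ}
    (ht : cj (φ T) γ = ψ T') (hq : cj (φ Q) γ = ψ Q') (hp : cj (φ P) γ = ψ P') (hw : cj (φ W) γ = ψ W') (he : cj (φ E) γ = ψ E') (u : El MQ) :
    cj (φ u) γ = ψ (sb T' Q' P' W' E' u) := by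
  refine El.act φ ψ γ _ (fun i hi => ?_) u
  change i < 5 at hi
  interval_cases i <;> assumption

theorem memM {Γ : Type*} [Group Γ] (φ : El MQ  →* Γ) {Λ : Subgroup Γ} (m : ℕ)
    (ht : tb m 4 = true → φ T ∈ Λ) (hq : tb m 3 = true → φ Q ∈ Λ) (hp : tb m 2 = true → φ P ∈ Λ) (hw : tb m 1 = true → φ W ∈ Λ) (he : tb m 0 = true → φ E ∈ Λ) {u : El MQ} (hu : El.In m u) : φ u ∈ Λ := by
  refine El.memM φ m (fun i hi => ?_) hu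
  change i < 5 at hi
  interval_cases i <;> assumption

theorem mem {Γ : Type*} [Group Γ] (φ : El MQ  →* Γ) {Λ : Subgroup Γ}
    (ht : φ T ∈ Λ) (hq : φ Q ∈ Λ) (hp : φ P ∈ Λ) (hw : φ W ∈ Λ) (he : φ E ∈ Λ) (u : El MQ) : φ u ∈ Λ := by
  refine El.mem φ (fun i hi => ?_) u
  change i < 5 at hi
  interval_cases i <;> assumption

theorem inj {Γ : Type*} [Group Γ] (φ : El MQ  →* Γ)
    (h0 : φ E ≠ 1) (h1 : φ W ≠ 1) (h2 : φ W * φ E ≠ 1) : Function.Injective φ := by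
  refine El.inj φ [E, W, W * E] (by decide +kernel) fun z hz => ?_
  simp only [List.mem_cons, List.not_mem_nil, or_false] at hz
  rcases hz with rfl | rfl | rfl <;> simpa only [map_mul]

theorem qex {Γ : Type*} [Group Γ] (N : Subgroup Γ) {t q p w e : Γ}
    (hn : t ∈ Subgroup.normalizer (N : Set Γ) ∧ q ∈ Subgroup.normalizer (N : Set Γ) ∧ p ∈ Subgroup.normalizer (N : Set Γ) ∧ w ∈ Subgroup.normalizer (N : Set Γ) ∧ e ∈ Subgroup.normalizer (N : Set Γ))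
    (h : e * e ∈ N ∧ w * w ∈ N ∧ (cj e w)⁻¹ * (e) ∈ N ∧ p * p ∈ N ∧ (cj e p)⁻¹ * (e) ∈ N ∧ (cj w p)⁻¹ * (w) ∈ N ∧ q * q ∈ N ∧ (cj e q)⁻¹ * (e) ∈ N ∧ (cj w q)⁻¹ * (w) ∈ N ∧ (cj p q)⁻¹ * (p) ∈ N ∧ t * t ∈ N ∧ (cj e t)⁻¹ * (e) ∈ N ∧ (cj w t)⁻¹ * (w) ∈ N ∧ (cj p t)⁻¹ * (p * e) ∈ N ∧ (cj q t)⁻¹ * (q * w) ∈ N)
    (hz : e ∉ N ∧ w ∉ N ∧ w * e ∉ N) :
    ∃ R : Γ → El MQ → Prop, QM N R ∧ R t T ∧ R q Q ∧ R p P ∧ R w W ∧ R e E := by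
  obtain ⟨nt, nq, np, nw, ne⟩ := hn
  obtain ⟨h0_0, h1_1, h1_0, h2_2, h2_0, h2_1, h3_3, h3_0, h3_1, h3_2, h4_4, h4_0, h4_1, h4_2, h4_3⟩ := h
  obtain ⟨ψ, et, eq, ep, ew, ee⟩ := ex (t := qp N ⟨t, nt⟩) (q := qp N ⟨q, nq⟩) (p := qp N ⟨p, np⟩) (w := qp N ⟨w, nw⟩) (e := qp N ⟨e, ne⟩) ⟨
    (map_mul (qp N) ⟨e, ne⟩ ⟨e, ne⟩).symm.trans ((qone _).2 h0_0),
    (map_mul (qp N) ⟨w, nw⟩ ⟨w, nw⟩).symm.trans ((qone _).2 h1_1),
    (map_cj (qp N) ⟨e, ne⟩ ⟨w, nw⟩).symm.trans (qrel _ _ h1_0),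
    (map_mul (qp N) ⟨p, np⟩ ⟨p, np⟩).symm.trans ((qone _).2 h2_2),
    (map_cj (qp N) ⟨e, ne⟩ ⟨p, np⟩).symm.trans (qrel _ _ h2_0),
    (map_cj (qp N) ⟨w, nw⟩ ⟨p, np⟩).symm.trans (qrel _ _ h2_1),
    (map_mul (qp N) ⟨q, nq⟩ ⟨q, nq⟩).symm.trans ((qone _).2 h3_3),
    (map_cj (qp N) ⟨e, ne⟩ ⟨q, nq⟩).symm.trans (qrel _ _ h3_0),
    (map_cj (qp N) ⟨w, nw⟩ ⟨q, nq⟩).symm.trans (qrel _ _ h3_1),
    (map_cj (qp N) ⟨p, np⟩ ⟨q, nq⟩).symm.trans (qrel _ _ h3_2),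
    (map_mul (qp N) ⟨t, nt⟩ ⟨t, nt⟩).symm.trans ((qone _).2 h4_4),
    (map_cj (qp N) ⟨e, ne⟩ ⟨t, nt⟩).symm.trans (qrel _ _ h4_0),
    (map_cj (qp N) ⟨w, nw⟩ ⟨t, nt⟩).symm.trans (qrel _ _ h4_1),
    (map_cj (qp N) ⟨p, np⟩ ⟨t, nt⟩).symm.trans ((qrel _ (⟨p, np⟩ * ⟨e, ne⟩) h4_2).trans (by simp only [map_mul])),
    (map_cj (qp N) ⟨q, nq⟩ ⟨t, nt⟩).symm.trans ((qrel _ (⟨q, nq⟩ * ⟨w, nw⟩) h4_3).trans (by simp only [map_mul]))⟩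
  exact ⟨_, QM.of_hom ψ (inj ψ (by
    rw [ee]
    exact fun h => hz.1 ((qone _).1 h)) (by
    rw [ew]
    exact fun h => hz.2.1 ((qone _).1 h)) (by
    rw [ew, ee]; simp only [← map_mul]
    exact fun h => hz.2.2 ((qone _).1 h))), ⟨nt, et.symm⟩, ⟨nq, eq.symm⟩, ⟨np, ep.symm⟩, ⟨nw, ew.symm⟩, ⟨ne, ee.symm⟩⟩

end MQ

/-- tables of a group of order 64 -/
def MG : Pc := ⟨6, 63, 0x72fdfbf7e76ddbaf3f7aed79ffc7ecd38fbd667cffe7a625cbee3b6e6c7def86a4c3ceb95abff3d765e9fb2d3752af71df4568f30db54e3ef7c724a1eb6c33462e75cf0420e34cb133f9ebb6e37d9aab2f3be969bec3fc928bad2778efa6a2358aea2b2f686dae82b482caa91bbbe39661f9ba292713ab619e4178b209a50f3ae78620b1aa6823072a658e0030a248a1f0f5db75ef4d59a71ff8e5597dcfcc51879de474df65ae0549e61bec645d6d8e8441c699d8b7d3556dc9792517d0a7515d4d48710595cc36d7452c81696413c426554d0c00614491b1f1cb34eb5d18a30fb9e1493ccbdc10838da570cf24aa1508e20bad604d2c8a9400c28999b3c31469d938210791a3411c49583001858d32c70428912860038522450c0810204081,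 0xf3ef7fdb4df5e7be3acf1cb0b2dbafa68aea9a79258e28607dd79c5d55946d96984d14903ce34c2ca2481c61440c2040, 0x10285081000108042000004081000000081000000001000000000⟩

instance MG_ok : MG.OK := ⟨by decide +kernel⟩

namespace MG

noncomputable def T : El MG := El.gen 5
noncomputable def G : El MG := El.gen 4
noncomputable def Q : El MG := El.gen 3
noncomputable def P : El MG := El.gen 2
noncomputable def W : El MG := El.gen 1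
noncomputable def E : El MG := El.gen 0

theorem rel {Γ : Type*} [Group Γ] {t g q p w e : Γ}
    (h : e * e = 1 ∧ w * w = 1 ∧ cj e w = e ∧ p * p = 1 ∧ cj e p = e ∧ cj w p = w ∧ q * q = 1 ∧ cj e q = e ∧ cj w q = w ∧ cj p q = p ∧ g * g = 1 ∧ cj e g = w ∧ cj w g = e ∧ cj p g = q ∧ cj q g = p ∧ t * t = 1 ∧ cj e t = e ∧ cj w t = w ∧ cj p t = p * e ∧ cj q t = q * w ∧ cj g t = g) :
    MG.Rel (nt [e, w, p, q, g, t]) := by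
  obtain ⟨h0_0, h1_1, h1_0, h2_2, h2_0, h2_1, h3_3, h3_0, h3_1, h3_2, h4_4, h4_0, h4_1, h4_2, h4_3, h5_5, h5_0, h5_1, h5_2, h5_3, h5_4⟩ := h
  refine Pc.rel_of fun i hi j hj => ?_
  change i < 6 at hi
  interval_cases i <;> interval_cases j
  · exact h0_0
  · exact (h1_0.trans (by rw [mul_one]) : cj e w = e * 1)
  · exact h1_1
  · exact (h2_0.trans (by rw [mul_one]) : cj e p = e * 1)
  · exact (h2_1.trans (by rw [mul_one]) : cj w p = w * 1)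
  · exact h2_2
  · exact (h3_0.trans (by rw [mul_one]) : cj e q = e * 1)
  · exact (h3_1.trans (by rw [mul_one]) : cj w q = w * 1)
  · exact (h3_2.trans (by rw [mul_one]) : cj p q = p * 1)
  · exact h3_3
  · exact (h4_0.trans (by rw [mul_one]) : cj e g = w * 1)
  · exact (h4_1.trans (by rw [mul_one]) : cj w g = e * 1)
  · exact (h4_2.trans (by rw [mul_one]) : cj p g = q * 1)
  · exact (h4_3.trans (by rw [mul_one]) : cj q g = p * 1)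
  · exact h4_4
  · exact (h5_0.trans (by rw [mul_one]) : cj e t = e * 1)
  · exact (h5_1.trans (by rw [mul_one]) : cj w t = w * 1)
  · exact (h5_2.trans (by rw [mul_one]) : cj p t = p * (e * 1))
  · exact (h5_3.trans (by rw [mul_one]) : cj q t = q * (w * 1))
  · exact (h5_4.trans (by rw [mul_one]) : cj g t = g * 1)
  · exact h5_5

theorem ex {Γ : Type*} [Group Γ] {t g q p w e : Γ}
    (h : e * e = 1 ∧ w * w = 1 ∧ cj e w = e ∧ p * p = 1 ∧ cj e p = e ∧ cj w p = w ∧ q * q = 1 ∧ cj e q = e ∧ cj w q = w ∧ cj p q = p ∧ g * g = 1 ∧ cj e g = w ∧ cj w g = e ∧ cj p g = q ∧ cj q g = p ∧ t * t = 1 ∧ cj e t = e ∧ cj w t = w ∧ cj p t = p * e ∧ cj q t = q * w ∧ cj g t = g) :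
    ∃ φ : El MG  →* Γ, φ T = t ∧ φ G = g ∧ φ Q = q ∧ φ P = p ∧ φ W = w ∧ φ E = e :=
  ⟨El.lift (rel h), El.lift_gen (rel h) (i := 5) (by decide), El.lift_gen (rel h) (i := 4) (by decide), El.lift_gen (rel h) (i := 3) (by decide), El.lift_gen (rel h) (i := 2) (by decide), El.lift_gen (rel h) (i := 1) (by decide), El.lift_gen (rel h) (i := 0) (by decide)⟩

/-- substitution -/
noncomputable def sb {Ξ : Type*} [Monoid Ξ] (T' G' Q' P' W' E' : Ξ) (u : El MG) : Ξ := El.sub [E', W', P', Q', G', T'] u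

theorem actM {Γ Ξ : Type*} [Group Γ] [Group Ξ] (φ : El MG  →* Γ) (ψ : Ξ  →* Γ) (γ : Γ) (m : ℕ) {T' G' Q' P' W' E' : Ξ}
    (ht : tb m 5 = true → cj (φ T) γ = ψ T') (hg : tb m 4 = true → cj (φ G) γ = ψ G') (hq : tb m 3 = true → cj (φ Q) γ = ψ Q') (hp : tb m 2 = true → cj (φ P) γ = ψ P') (hw : tb m 1 = true → cj (φ W) γ = ψ W') (he : tb m 0 = true → cj (φ E) γ = ψ E') {u : El MG} (hu : El.In m u) :
    cj (φ u) γ = ψ (sb T' G' Q' P' W' E' u) := by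
  refine El.actM φ ψ γ _ m (fun i hi => ?_) hu
  change i < 6 at hi
  interval_cases i <;> assumption

theorem act {Γ Ξ : Type*} [Group Γ] [Group Ξ] (φ : El MG  →* Γ) (ψ : Ξ  →* Γ) (γ : Γ) {T' G' Q' P' W' E' : Ξ}
    (ht : cj (φ T) γ = ψ T') (hg : cj (φ G) γ = ψ G') (hq : cj (φ Q) γ = ψ Q') (hp : cj (φ P) γ = ψ P') (hw : cj (φ W) γ = ψ W') (he : cj (φ E) γ = ψ E') (u : El MG) :
    cj (φ u) γ = ψ (sb T' G' Q' P' W' E' u) := by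
  refine El.act φ ψ γ _ (fun i hi => ?_) u
  change i < 6 at hi
  interval_cases i <;> assumption

theorem memM {Γ : Type*} [Group Γ] (φ : El MG  →* Γ) {Λ : Subgroup Γ} (m : ℕ)
    (ht : tb m 5 = true → φ T ∈ Λ) (hg : tb m 4 = true → φ G ∈ Λ) (hq : tb m 3 = true → φ Q ∈ Λ) (hp : tb m 2 = true → φ P ∈ Λ) (hw : tb m 1 = true → φ W ∈ Λ) (he : tb m 0 = true → φ E ∈ Λ) {u : El MG} (hu : El.In m u) : φ u ∈ Λ := by
  refine El.memM φ m (fun i hi => ?_) hu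
  change i < 6 at hi
  interval_cases i <;> assumption

theorem mem {Γ : Type*} [Group Γ] (φ : El MG  →* Γ) {Λ : Subgroup Γ}
    (ht : φ T ∈ Λ) (hg : φ G ∈ Λ) (hq : φ Q ∈ Λ) (hp : φ P ∈ Λ) (hw : φ W ∈ Λ) (he : φ E ∈ Λ) (u : El MG) : φ u ∈ Λ := by
  refine El.mem φ (fun i hi => ?_) u
  change i < 6 at hi
  interval_cases i <;> assumption

theorem inj {Γ : Type*} [Group Γ] (φ : El MG  →* Γ)
    (h0 : φ W * φ E ≠ 1) : Function.Injective φ := by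
  refine El.inj φ [W * E] (by decide +kernel) fun z hz => ?_
  simp only [List.mem_cons, List.not_mem_nil, or_false] at hz
  rcases hz with rfl <;> simpa only [map_mul]

theorem qex {Γ : Type*} [Group Γ] (N : Subgroup Γ) {t g q p w e : Γ}
    (hn : t ∈ Subgroup.normalizer (N : Set Γ) ∧ g ∈ Subgroup.normalizer (N : Set Γ) ∧ q ∈ Subgroup.normalizer (N : Set Γ) ∧ p ∈ Subgroup.normalizer (N : Set Γ) ∧ w ∈ Subgroup.normalizer (N : Set Γ) ∧ e ∈ Subgroup.normalizer (N : Set Γ))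
    (h : e * e ∈ N ∧ w * w ∈ N ∧ (cj e w)⁻¹ * (e) ∈ N ∧ p * p ∈ N ∧ (cj e p)⁻¹ * (e) ∈ N ∧ (cj w p)⁻¹ * (w) ∈ N ∧ q * q ∈ N ∧ (cj e q)⁻¹ * (e) ∈ N ∧ (cj w q)⁻¹ * (w) ∈ N ∧ (cj p q)⁻¹ * (p) ∈ N ∧ g * g ∈ N ∧ (cj e g)⁻¹ * (w) ∈ N ∧ (cj w g)⁻¹ * (e) ∈ N ∧ (cj p g)⁻¹ * (q) ∈ N ∧ (cj q g)⁻¹ * (p) ∈ N ∧ t * t ∈ N ∧ (cj e t)⁻¹ * (e) ∈ N ∧ (cj w t)⁻¹ * (w) ∈ N ∧ (cj p t)⁻¹ * (p * e) ∈ N ∧ (cj q t)⁻¹ * (q * w) ∈ N ∧ (cj g t)⁻¹ * (g) ∈ N)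
    (hz : w * e ∉ N) :
    ∃ R : Γ → El MG → Prop, QM N R ∧ R t T ∧ R g G ∧ R q Q ∧ R p P ∧ R w W ∧ R e E := by
  obtain ⟨nt, ng, nq, np, nw, ne⟩ := hn
  obtain ⟨h0_0, h1_1, h1_0, h2_2, h2_0, h2_1, h3_3, h3_0, h3_1, h3_2, h4_4, h4_0, h4_1, h4_2, h4_3, h5_5, h5_0, h5_1, h5_2, h5_3, h5_4⟩ := h
  obtain ⟨ψ, et, eg, eq, ep, ew, ee⟩ := ex (t := qp N ⟨t, nt⟩) (g := qp N ⟨g, ng⟩) (q := qp N ⟨q, nq⟩) (p := qp N ⟨p, np⟩) (w := qp N ⟨w, nw⟩) (e := qp N ⟨e, ne⟩) ⟨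
    (map_mul (qp N) ⟨e, ne⟩ ⟨e, ne⟩).symm.trans ((qone _).2 h0_0),
    (map_mul (qp N) ⟨w, nw⟩ ⟨w, nw⟩).symm.trans ((qone _).2 h1_1),
    (map_cj (qp N) ⟨e, ne⟩ ⟨w, nw⟩).symm.trans (qrel _ _ h1_0),
    (map_mul (qp N) ⟨p, np⟩ ⟨p, np⟩).symm.trans ((qone _).2 h2_2),
    (map_cj (qp N) ⟨e, ne⟩ ⟨p, np⟩).symm.trans (qrel _ _ h2_0),
    (map_cj (qp N) ⟨w, nw⟩ ⟨p, np⟩).symm.trans (qrel _ _ h2_1),
    (map_mul (qp N) ⟨q, nq⟩ ⟨q, nq⟩).symm.trans ((qone _).2 h3_3),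
    (map_cj (qp N) ⟨e, ne⟩ ⟨q, nq⟩).symm.trans (qrel _ _ h3_0),
    (map_cj (qp N) ⟨w, nw⟩ ⟨q, nq⟩).symm.trans (qrel _ _ h3_1),
    (map_cj (qp N) ⟨p, np⟩ ⟨q, nq⟩).symm.trans (qrel _ _ h3_2),
    (map_mul (qp N) ⟨g, ng⟩ ⟨g, ng⟩).symm.trans ((qone _).2 h4_4),
    (map_cj (qp N) ⟨e, ne⟩ ⟨g, ng⟩).symm.trans (qrel _ _ h4_0),
    (map_cj (qp N) ⟨w, nw⟩ ⟨g, ng⟩).symm.trans (qrel _ _ h4_1),
    (map_cj (qp N) ⟨p, np⟩ ⟨g, ng⟩).symm.trans (qrel _ _ h4_2),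
    (map_cj (qp N) ⟨q, nq⟩ ⟨g, ng⟩).symm.trans (qrel _ _ h4_3),
    (map_mul (qp N) ⟨t, nt⟩ ⟨t, nt⟩).symm.trans ((qone _).2 h5_5),
    (map_cj (qp N) ⟨e, ne⟩ ⟨t, nt⟩).symm.trans (qrel _ _ h5_0),
    (map_cj (qp N) ⟨w, nw⟩ ⟨t, nt⟩).symm.trans (qrel _ _ h5_1),
    (map_cj (qp N) ⟨p, np⟩ ⟨t, nt⟩).symm.trans ((qrel _ (⟨p, np⟩ * ⟨e, ne⟩) h5_2).trans (by simp only [map_mul])),
    (map_cj (qp N) ⟨q, nq⟩ ⟨t, nt⟩).symm.trans ((qrel _ (⟨q, nq⟩ * ⟨w, nw⟩) h5_3).trans (by simp only [map_mul])),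
    (map_cj (qp N) ⟨g, ng⟩ ⟨t, nt⟩).symm.trans (qrel _ _ h5_4)⟩
  exact ⟨_, QM.of_hom ψ (inj ψ (by
    rw [ew, ee]; simp only [← map_mul]
    exact fun h => hz ((qone _).1 h))), ⟨nt, et.symm⟩, ⟨ng, eg.symm⟩, ⟨nq, eq.symm⟩, ⟨np, ep.symm⟩, ⟨nw, ew.symm⟩, ⟨ne, ee.symm⟩⟩

end MG

end CF.Fz
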