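import Cfsg.Agent.Fz.Pc

/-! Generated by tools/fz. -/

set_option autoImplicit false

namespace CF.Fz

open CF.Comp

/-- tables of a group of order 64 -/
def MP : Pc := ⟨6, 63, 0x66bd7bf7e62ad3af3f6e9df9ffc6a8db8fbd76fc7fe7a72ec3ee3b7edcfdef87accbceb94e3ff3d764a2fb2d37461f71df4420f30db55e7ef7c725a6eb6c33565e75cf0524e34cb137f96bb6e33e92ab2f3fd9e9bec3bc9a8bad27b86fa6a23a82ea2b2f98edae82b88acaa91f7be39661b6ba2927175b619e4134b209a50f3ae78620b2aa6823071a658e0030a248a1e4b55b75ee0a51a71fec95d97dce8859879df4f45f65af0e41e61bfcd4dd6d8f8c49c699cc37d3556c82792517c417515d4c00710595dc76d7452d86696413d456554d0d04614491b5f14b34eb1e10a30fbdd1c93ccb9c18838da5b04f24aa1a00e20bad90cd2c8a9808c2899d73c31469963821079553411c49143001858d32c70428922860038512450c0810204081, 0xffef7cefae78df6d74cf2c70beeb6caeaa689e69648e28606586da75c7de4d24505d655434c3ce2482ca1c61440c2040, 0x14284081004204081000084081000000081000000001000000000⟩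

instance MP_ok : MP.OK := ⟨by decide +kernel⟩

namespace MP

noncomputable def T : El MP := El.gen 5
noncomputable def P : El MP := El.gen 4
noncomputable def Y : El MP := El.gen 3
noncomputable def E : El MP := El.gen 2
noncomputable def B : El MP := El.gen 1
noncomputable def C : El MP := El.gen 0

theorem rel {Γ : Type*} [Group Γ] {t p y e b c : Γ}
    (h : c * c = 1 ∧ b * b = 1 ∧ cj c b = c ∧ e * e = 1 ∧ cj c e = c ∧ cj b e = b ∧ y * y = b ∧ cj c y = c ∧ cj b y = b ∧ cj e y = e ∧ p * p = e ∧ cj c p = c ∧ cj b p = b ∧ cj e p = e ∧ cj y p = y ∧ t * t = 1 ∧ cj c t = c ∧ cj b t = b ∧ cj e t = e ∧ cj y t = y * b ∧ cj p t = p * e) :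
    MP.Rel (nt [c, b, e, y, p, t]) := by
  obtain ⟨h0_0, h1_1, h1_0, h2_2, h2_0, h2_1, h3_3, h3_0, h3_1, h3_2, h4_4, h4_0, h4_1, h4_2, h4_3, h5_5, h5_0, h5_1, h5_2, h5_3, h5_4⟩ := h
  refine Pc.rel_of fun i hi j hj => ?_
  change i < 6 at hi
  interval_cases i <;> interval_cases j
  · exact h0_0
  · exact (h1_0.trans (by rw [mul_one]) : cj c b = c * 1)
  · exact h1_1
  · exact (h2_0.trans (by rw [mul_one]) : cj c e = c * 1)
  · exact (h2_1.trans (by rw [mul_one]) : cj b e = b * 1)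
  · exact h2_2
  · exact (h3_0.trans (by rw [mul_one]) : cj c y = c * 1)
  · exact (h3_1.trans (by rw [mul_one]) : cj b y = b * 1)
  · exact (h3_2.trans (by rw [mul_one]) : cj e y = e * 1)
  · exact (h3_3.trans (by rw [mul_one]) : y * y = b * 1)
  · exact (h4_0.trans (by rw [mul_one]) : cj c p = c * 1)
  · exact (h4_1.trans (by rw [mul_one]) : cj b p = b * 1)
  · exact (h4_2.trans (by rw [mul_one]) : cj e p = e * 1)
  · exact (h4_3.trans (by rw [mul_one]) : cj y p = y * 1)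
  · exact (h4_4.trans (by rw [mul_one]) : p * p = e * 1)
  · exact (h5_0.trans (by rw [mul_one]) : cj c t = c * 1)
  · exact (h5_1.trans (by rw [mul_one]) : cj b t = b * 1)
  · exact (h5_2.trans (by rw [mul_one]) : cj e t = e * 1)
  · exact (h5_3.trans (by rw [mul_one]) : cj y t = y * (b * 1))
  · exact (h5_4.trans (by rw [mul_one]) : cj p t = p * (e * 1))
  · exact h5_5

theorem ex {Γ : Type*} [Group Γ] {t p y e b c : Γ}
    (h : c * c = 1 ∧ b * b = 1 ∧ cj c b = c ∧ e * e = 1 ∧ cj c e = c ∧ cj b e = b ∧ y * y = b ∧ cj c y = c ∧ cj b y = b ∧ cj e y = e ∧ p * p = e ∧ cj c p = c ∧ cj b p = b ∧ cj e p = e ∧ cj y p = y ∧ t * t = 1 ∧ cj c t = c ∧ cj b t = b ∧ cj e t = e ∧ cj y t = y * b ∧ cj p t = p * e) :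
    ∃ φ : El MP  →* Γ, φ T = t ∧ φ P = p ∧ φ Y = y ∧ φ E = e ∧ φ B = b ∧ φ C = c :=
  ⟨El.lift (rel h), El.lift_gen (rel h) (i := 5) (by decide), El.lift_gen (rel h) (i := 4) (by decide), El.lift_gen (rel h) (i := 3) (by decide), El.lift_gen (rel h) (i := 2) (by decide), El.lift_gen (rel h) (i := 1) (by decide), El.lift_gen (rel h) (i := 0) (by decide)⟩

/-- substitution -/
noncomputable def sb {Ξ : Type*} [Monoid Ξ] (T' P' Y' E' B' C' : Ξ) (u : El MP) : Ξ := El.sub [C', B', E', Y', P', T'] u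

theorem actM {Γ Ξ : Type*} [Group Γ] [Group Ξ] (φ : El MP  →* Γ) (ψ : Ξ  →* Γ) (γ : Γ) (m : ℕ) {T' P' Y' E' B' C' : Ξ}
    (ht : tb m 5 = true → cj (φ T) γ = ψ T') (hp : tb m 4 = true → cj (φ P) γ = ψ P') (hy : tb m 3 = true → cj (φ Y) γ = ψ Y') (he : tb m 2 = true → cj (φ E) γ = ψ E') (hb : tb m 1 = true → cj (φ B) γ = ψ B') (hc : tb m 0 = true → cj (φ C) γ = ψ C') {u : El MP} (hu : El.In m u) :
    cj (φ u) γ = ψ (sb T' P' Y' E' B' C' u) := by
  refine El.actM φ ψ γ _ m (fun i hi => ?_) hu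
  change i < 6 at hi
  interval_cases i <;> assumption

theorem act {Γ Ξ : Type*} [Group Γ] [Group Ξ] (φ : El MP  →* Γ) (ψ : Ξ  →* Γ) (γ : Γ) {T' P' Y' E' B' C' : Ξ}
    (ht : cj (φ T) γ = ψ T') (hp : cj (φ P) γ = ψ P') (hy : cj (φ Y) γ = ψ Y') (he : cj (φ E) γ = ψ E') (hb : cj (φ B) γ = ψ B') (hc : cj (φ C) γ = ψ C') (u : El MP) :
    cj (φ u) γ = ψ (sb T' P' Y' E' B' C' u) := by
  refine El.act φ ψ γ _ (fun i hi => ?_) u
  change i < 6 at hi
  interval_cases i <;> assumption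

theorem memM {Γ : Type*} [Group Γ] (φ : El MP  →* Γ) {Λ : Subgroup Γ} (m : ℕ)
    (ht : tb m 5 = true → φ T ∈ Λ) (hp : tb m 4 = true → φ P ∈ Λ) (hy : tb m 3 = true → φ Y ∈ Λ) (he : tb m 2 = true → φ E ∈ Λ) (hb : tb m 1 = true → φ B ∈ Λ) (hc : tb m 0 = true → φ C ∈ Λ) {u : El MP} (hu : El.In m u) : φ u ∈ Λ := by
  refine El.memM φ m (fun i hi => ?_) hu
  change i < 6 at hi
  interval_cases i <;> assumption

theorem mem {Γ : Type*} [Group Γ] (φ : El MP  →* Γ) {Λ : Subgroup Γ}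
    (ht : φ T ∈ Λ) (hp : φ P ∈ Λ) (hy : φ Y ∈ Λ) (he : φ E ∈ Λ) (hb : φ B ∈ Λ) (hc : φ C ∈ Λ) (u : El MP) : φ u ∈ Λ := by
  refine El.mem φ (fun i hi => ?_) u
  change i < 6 at hi
  interval_cases i <;> assumption

theorem inj {Γ : Type*} [Group Γ] (φ : El MP  →* Γ)
    (h0 : φ C ≠ 1) (h1 : φ B ≠ 1) (h2 : φ B * φ C ≠ 1) (h3 : φ E ≠ 1) (h4 : φ E * φ C ≠ 1) (h5 : φ E * φ B ≠ 1) (h6 : φ E * φ B * φ C ≠ 1) : Function.Injective φ := by
  refine El.inj φ [C, B, B * C, E, E * C, E * B, E * B * C] (by decide +kernel) fun z hz => ?_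
  simp only [List.mem_cons, List.not_mem_nil, or_false] at hz
  rcases hz with rfl | rfl | rfl | rfl | rfl | rfl | rfl <;> simpa only [map_mul]

end MP

/-- tables of a group of order 128 -/
def MD : Pc := ⟨7, 127, 0x71675f5f7f7f39b1aba7af9fdd5bd3dfcfff8eed68ede3f7d79777f1ffe7d3db9bb87ef1edf5fdbcfefbf0fef6ce5f3d79654f1ffe7d7b33a58bf72e9dd851c3f78f7e8c6860f9c3b756d5f3fbefc7937ad9bd76e1cda55cbe7af3e0d6a64f1d39715937fe5d7b772d99fb26ad9bd74ffb9f4efd8be77ccda376d5127de1dfa752991eb06ed1ad54bf38f6ebd0ae578c5b35694d1fbefc7973278ddb762c99d245ebb70e7c896274d983365450f9ebcf8712385cb566c18d041e3a72e3c086070d19316133e65d5b776f18f12aa5ab97cdfb935ecdfb86bd48ad62f5d3bf67d1bf66d1cf93a85eb16cfff9b4eedbb07bf4ca572d5927ce1dfa756b12e50af52a95c8f183768d7a843840b942b552fde3dbaf46916ed1ad56a14caf58b66ad3a053a44b1529511bb6fc5973670cd97a24a993c7efbb1e4cf983b75c8d2274d13a6dc19f26508d16a04e912c5ebb30e6cb902b55885325490f9ebcf87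16306cd5a742891c2e5ab360c788132549902345078e9cb8f06102c54a546810c0e1a3262c380030509112141f0655b576f5f7930a9a3a78ffd1b52ddcbf79ecd286ce1f3df8757b17ee5d7d38b983e70eff1f5acdebb71fcf2c64f1d39e44d1bf66d5b732489f3268df81142f58b769c482078c1b35ec5d3bb6ec59772c99d3660cfa154ae5ab361d4a2470d1931d835fa556b576d18f922a58bf70f7a9d4af59bc73c4ca172dd025da15ea556910e902e50af50b728d6ab51ac53844b1529cc1dbaf46953670cd9722489f2056ab50a749942345881325c40d9ab4e8516304c9526408f00162a52a341840305091121b2e45953674f587028a1a387edbb125cc9f3969d082c60f1dbaf47913e64d5c783881e306efbf1a4ce9b3179f0c2470d19a6cc19f2654b526408f12285e8b1027489729418003840b15aedc39b2e449566c18d16204eab50a64a932151a0430509119ab4f85163474c587820a183e7af3a1c48f193971c0c2070d92a4d811e24548506800e102e5ab320c68b112951804305098e9cb8f06143464c58702081e2a52a3408709112141800305868c98b0e041424448506000e0a1222428301010101010101, 0xf1e7d7bf9f7f7fe5cf871eddfa75d9b776fd1a756bcd9f265c58f061bf7aedcb76acd8af5aad4a74a8d09f3a6cc972a4c88f1a2c4870a0c07ef9ebc76e9cb86ed9ab466c98b05eb96ac56a94a84e992a446890a03260d9a3a70f9e26488902e58a941a3078e122058a0e182840608080,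 0x425050404040002828202020000410101010000002080808000000000404000000000002000000000000⟩

instance MD_ok : MD.OK := ⟨by decide +kernel⟩

namespace MD

noncomputable def T : El MD := El.gen 6
noncomputable def D : El MD := El.gen 5
noncomputable def P : El MD := El.gen 4
noncomputable def Y : El MD := El.gen 3
noncomputable def E : El MD := El.gen 2
noncomputable def B : El MD := El.gen 1
noncomputable def C : El MD := El.gen 0

theorem rel {Γ : Type*} [Group Γ] {t d p y e b c : Γ}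
    (h : c * c = 1 ∧ b * b = 1 ∧ cj c b = c ∧ e * e = 1 ∧ cj c e = c ∧ cj b e = b ∧ y * y = b ∧ cj c y = c ∧ cj b y = b ∧ cj e y = e ∧ p * p = e ∧ cj c p = c ∧ cj b p = b ∧ cj e p = e ∧ cj y p = y ∧ d * d = 1 ∧ cj c d = c ∧ cj b d = b ∧ cj e d = e ∧ cj y d = y * b ∧ cj p d = p * e ∧ t * t = 1 ∧ cj c t = c ∧ cj b t = b ∧ cj e t = e ∧ cj y t = y * b ∧ cj p t = p * e ∧ cj d t = d * c) :
    MD.Rel (nt [c, b, e, y, p, d, t]) := by
  obtain ⟨h0_0, h1_1, h1_0, h2_2, h2_0, h2_1, h3_3, h3_0, h3_1, h3_2, h4_4, h4_0, h4_1, h4_2, h4_3, h5_5, h5_0, h5_1, h5_2, h5_3, h5_4, h6_6, h6_0, h6_1, h6_2, h6_3, h6_4, h6_5⟩ := h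
  refine Pc.rel_of fun i hi j hj => ?_
  change i < 7 at hi
  interval_cases i <;> interval_cases j
  · exact h0_0
  · exact (h1_0.trans (by rw [mul_one]) : cj c b = c * 1)
  · exact h1_1
  · exact (h2_0.trans (by rw [mul_one]) : cj c e = c * 1)
  · exact (h2_1.trans (by rw [mul_one]) : cj b e = b * 1)
  · exact h2_2
  · exact (h3_0.trans (by rw [mul_one]) : cj c y = c * 1)
  · exact (h3_1.trans (by rw [mul_one]) : cj b y = b * 1)
  · exact (h3_2.trans (by rw [mul_one]) : cj e y = e * 1)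
  · exact (h3_3.trans (by rw [mul_one]) : y * y = b * 1)
  · exact (h4_0.trans (by rw [mul_one]) : cj c p = c * 1)
  · exact (h4_1.trans (by rw [mul_one]) : cj b p = b * 1)
  · exact (h4_2.trans (by rw [mul_one]) : cj e p = e * 1)
  · exact (h4_3.trans (by rw [mul_one]) : cj y p = y * 1)
  · exact (h4_4.trans (by rw [mul_one]) : p * p = e * 1)
  · exact (h5_0.trans (by rw [mul_one]) : cj c d = c * 1)
  · exact (h5_1.trans (by rw [mul_one]) : cj b d = b * 1)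
  · exact (h5_2.trans (by rw [mul_one]) : cj e d = e * 1)
  · exact (h5_3.trans (by rw [mul_one]) : cj y d = y * (b * 1))
  · exact (h5_4.trans (by rw [mul_one]) : cj p d = p * (e * 1))
  · exact h5_5
  · exact (h6_0.trans (by rw [mul_one]) : cj c t = c * 1)
  · exact (h6_1.trans (by rw [mul_one]) : cj b t = b * 1)
  · exact (h6_2.trans (by rw [mul_one]) : cj e t = e * 1)
  · exact (h6_3.trans (by rw [mul_one]) : cj y t = y * (b * 1))
  · exact (h6_4.trans (by rw [mul_one]) : cj p t = p * (e * 1))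
  · exact (h6_5.trans (by rw [mul_one]) : cj d t = d * (c * 1))
  · exact h6_6

theorem ex {Γ : Type*} [Group Γ] {t d p y e b c : Γ}
    (h : c * c = 1 ∧ b * b = 1 ∧ cj c b = c ∧ e * e = 1 ∧ cj c e = c ∧ cj b e = b ∧ y * y = b ∧ cj c y = c ∧ cj b y = b ∧ cj e y = e ∧ p * p = e ∧ cj c p = c ∧ cj b p = b ∧ cj e p = e ∧ cj y p = y ∧ d * d = 1 ∧ cj c d = c ∧ cj b d = b ∧ cj e d = e ∧ cj y d = y * b ∧ cj p d = p * e ∧ t * t = 1 ∧ cj c t = c ∧ cj b t = b ∧ cj e t = e ∧ cj y t = y * b ∧ cj p t = p * e ∧ cj d t = d * c) :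
    ∃ φ : El MD  →* Γ, φ T = t ∧ φ D = d ∧ φ P = p ∧ φ Y = y ∧ φ E = e ∧ φ B = b ∧ φ C = c :=
  ⟨El.lift (rel h), El.lift_gen (rel h) (i := 6) (by decide), El.lift_gen (rel h) (i := 5) (by decide), El.lift_gen (rel h) (i := 4) (by decide), El.lift_gen (rel h) (i := 3) (by decide), El.lift_gen (rel h) (i := 2) (by decide), El.lift_gen (rel h) (i := 1) (by decide), El.lift_gen (rel h) (i := 0) (by decide)⟩

/-- substitution -/
noncomputable def sb {Ξ : Type*} [Monoid Ξ] (T' D' P' Y' E' B' C' : Ξ) (u : El MD) : Ξ := El.sub [C', B', E', Y', P', D', T'] u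

theorem actM {Γ Ξ : Type*} [Group Γ] [Group Ξ] (φ : El MD  →* Γ) (ψ : Ξ  →* Γ) (γ : Γ) (m : ℕ) {T' D' P' Y' E' B' C' : Ξ}
    (ht : tb m 6 = true → cj (φ T) γ = ψ T') (hd : tb m 5 = true → cj (φ D) γ = ψ D') (hp : tb m 4 = true → cj (φ P) γ = ψ P') (hy : tb m 3 = true → cj (φ Y) γ = ψ Y') (he : tb m 2 = true → cj (φ E) γ = ψ E') (hb : tb m 1 = true → cj (φ B) γ = ψ B') (hc : tb m 0 = true → cj (φ C) γ = ψ C') {u : El MD} (hu : El.In m u) :
    cj (φ u) γ = ψ (sb T' D' P' Y' E' B' C' u) := by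
  refine El.actM φ ψ γ _ m (fun i hi => ?_) hu
  change i < 7 at hi
  interval_cases i <;> assumption

theorem act {Γ Ξ : Type*} [Group Γ] [Group Ξ] (φ : El MD  →* Γ) (ψ : Ξ  →* Γ) (γ : Γ) {T' D' P' Y' E' B' C' : Ξ}
    (ht : cj (φ T) γ = ψ T') (hd : cj (φ D) γ = ψ D') (hp : cj (φ P) γ = ψ P') (hy : cj (φ Y) γ = ψ Y') (he : cj (φ E) γ = ψ E') (hb : cj (φ B) γ = ψ B') (hc : cj (φ C) γ = ψ C') (u : El MD) :
    cj (φ u) γ = ψ (sb T' D' P' Y' E' B' C' u) := by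
  refine El.act φ ψ γ _ (fun i hi => ?_) u
  change i < 7 at hi
  interval_cases i <;> assumption

theorem memM {Γ : Type*} [Group Γ] (φ : El MD  →* Γ) {Λ : Subgroup Γ} (m : ℕ)
    (ht : tb m 6 = true → φ T ∈ Λ) (hd : tb m 5 = true → φ D ∈ Λ) (hp : tb m 4 = true → φ P ∈ Λ) (hy : tb m 3 = true → φ Y ∈ Λ) (he : tb m 2 = true → φ E ∈ Λ) (hb : tb m 1 = true → φ B ∈ Λ) (hc : tb m 0 = true → φ C ∈ Λ) {u : El MD} (hu : El.In m u) : φ u ∈ Λ := by
  refine El.memM φ m (fun i hi => ?_) hu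
  change i < 7 at hi
  interval_cases i <;> assumption

theorem mem {Γ : Type*} [Group Γ] (φ : El MD  →* Γ) {Λ : Subgroup Γ}
    (ht : φ T ∈ Λ) (hd : φ D ∈ Λ) (hp : φ P ∈ Λ) (hy : φ Y ∈ Λ) (he : φ E ∈ Λ) (hb : φ B ∈ Λ) (hc : φ C ∈ Λ) (u : El MD) : φ u ∈ Λ := by
  refine El.mem φ (fun i hi => ?_) u
  change i < 7 at hi
  interval_cases i <;> assumption

theorem inj {Γ : Type*} [Group Γ] (φ : El MD  →* Γ)
    (h0 : φ C ≠ 1) (h1 : φ B ≠ 1) (h2 : φ B * φ C ≠ 1) (h3 : φ E ≠ 1) (h4 : φ E * φ C ≠ 1) (h5 : φ E * φ B ≠ 1) (h6 : φ E * φ B * φ C ≠ 1) : Function.Injective φ := by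
  refine El.inj φ [C, B, B * C, E, E * C, E * B, E * B * C] (by decide +kernel) fun z hz => ?_
  simp only [List.mem_cons, List.not_mem_nil, or_false] at hz
  rcases hz with rfl | rfl | rfl | rfl | rfl | rfl | rfl <;> simpa only [map_mul]

end MD

end CF.Fz
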