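import Cfsg.Agent.Fz.Q

/-! Generated by tools/fz. -/

set_option autoImplicit false

namespace CF.Fz

open CF.Comp

/-- tables of a group of order 128 -/
def MU : Pc := ⟨7, 127, 0x596b577f7f7f2db7afb7af9fd75dd3d7cfff8bee68e9e3f7d537b773ffe7d28bfbf97ef1ed5d9dbc7efbf0aac6ce1f3d794d4b37fe7d7b27a79ff72e9dd255cbf78f7e896a64f9c3b75475b17befc7922af8fd76e1cd0d1c3e7af3e082860f1d3971792bd67d7b773d97ef36ad9bdf4df3974efd8fe678c9a376d733bf63dfa75389fff16ed1addc9fb876ebd0ea47cc1b35696d0bb6fc79733787df762c99da45ebb70e7c8d6274d983365671b96bcf871328fcf566c18d8c1e3a72e3c0c2070d19316139ea557b776f1df72eb5ab97cf7d9356cdfb87fe48a962f5d33fa753bf66d18ff3e95eb16cdf99b46edbb06bc4ca172d592dca35fa756b17e71ef52a95ca758b768d7a857a44b942b5527da15baf46912ef0ed56a14c8f18366ad3a043840b15295119aad47973670dd76e34a993c76db3164cf983f658892274d13baf439f26508df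7e14e912c5e9bb066cb902b45c81325490d8ab4f8716307c75e742891c265ab360c788172549902345079a94b8f06102cf4e546810c0e1a3262c380030509112141d86953776f5f6d36adb3a78ff71d52d5cbf79bce2868e1f3dd2797337ee5d683ebd93e70ef5995ac5ebb71a8c2c60f1d39cc4933f66d5b67269df3268df2154af58b76994a2478c1b35c65913b6ec59622e8dd3660cf09142e5ab3618082070d1931f829d2756b577d16ed32a58bff0d72954af59fc63848a172df239f235ea55781efd12e50afd897a856ab51e843c40b1529ec09b2f469537706dd722489fa056ab50a749d42345881325e61992b4e851720ecd526408f88162a52a341c00305091121b8e85173674f5d762cb1a387ef3d1254c9f397de082860f1db2f87133e64d587e3c91e306edb91a44e9b3169c0c2070d19acc831f2654b57661cf12285ea350a748972955a043840b15a6d811b2e449526e0cd16204e8b10264a932141800305091198a8d07163474d566c30a183e72d321448f193d618082070d92b8f031e245485e7c10e102e5a93a0468b112941c00305098c88b0f0614347465c702081e2252a3408709152141800305869890b0e041424e4c506000e0a1222428301010101010101,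 0xd9b75ead3a376fc78b265cd9f0e0f1e7f7ffbf3dfae5cfa75efdb8f0b166ddabb72f5faf5aa55a54e8d0993674f93225ca8d1e245870a0c07ef9cb876e9ebc66c9ab46ed98b054ad6ac5cbd4a8448d2a44c9d0a0346cc983c7ce9c2c5ca94244c8901e3868c16284880e182840608080, 0x604050504040002020207020000018101810000000080808000000000404000000000002000000000000⟩

instance MU_ok : MU.OK := ⟨by decide +kernel⟩

namespace MU

noncomputable def T : El MU := El.gen 6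
noncomputable def P : El MU := El.gen 5
noncomputable def W : El MU := El.gen 4
noncomputable def K : El MU := El.gen 3
noncomputable def Q : El MU := El.gen 2
noncomputable def V : El MU := El.gen 1
noncomputable def Y : El MU := El.gen 0

theorem rel {Γ : Type*} [Group Γ] {t p w k q v y : Γ}
    (h : y * y = 1 ∧ v * v = 1 ∧ cj y v = y ∧ q * q = 1 ∧ cj y q = y ∧ cj v q = v ∧ k * k = 1 ∧ cj y k = y ∧ cj v k = v ∧ cj q k = q ∧ w * w = 1 ∧ cj y w = y ∧ cj v w = v * y ∧ cj q w = q ∧ cj k w = k * q ∧ p * p = 1 ∧ cj y p = y ∧ cj v p = q * (v * y) ∧ cj q p = q ∧ cj k p = k ∧ cj w p = w ∧ t * t = 1 ∧ cj y t = y ∧ cj v t = v ∧ cj q t = q * y ∧ cj k t = k * v ∧ cj w t = w ∧ cj p t = p * w) :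
    MU.Rel (nt [y, v, q, k, w, p, t]) := by
  obtain ⟨h0_0, h1_1, h1_0, h2_2, h2_0, h2_1, h3_3, h3_0, h3_1, h3_2, h4_4, h4_0, h4_1, h4_2, h4_3, h5_5, h5_0, h5_1, h5_2, h5_3, h5_4, h6_6, h6_0, h6_1, h6_2, h6_3, h6_4, h6_5⟩ := h
  refine Pc.rel_of fun i hi j hj => ?_
  change i < 7 at hi
  interval_cases i <;> interval_cases j
  · exact h0_0
  · exact (h1_0.trans (by rw [mul_one]) : cj y v = y * 1)
  · exact h1_1
  · exact (h2_0.trans (by rw [mul_one]) : cj y q = y * 1)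
  · exact (h2_1.trans (by rw [mul_one]) : cj v q = v * 1)
  · exact h2_2
  · exact (h3_0.trans (by rw [mul_one]) : cj y k = y * 1)
  · exact (h3_1.trans (by rw [mul_one]) : cj v k = v * 1)
  · exact (h3_2.trans (by rw [mul_one]) : cj q k = q * 1)
  · exact h3_3
  · exact (h4_0.trans (by rw [mul_one]) : cj y w = y * 1)
  · exact (h4_1.trans (by rw [mul_one]) : cj v w = v * (y * 1))
  · exact (h4_2.trans (by rw [mul_one]) : cj q w = q * 1)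
  · exact (h4_3.trans (by rw [mul_one]) : cj k w = k * (q * 1))
  · exact h4_4
  · exact (h5_0.trans (by rw [mul_one]) : cj y p = y * 1)
  · exact (h5_1.trans (by rw [mul_one]) : cj v p = q * (v * (y * 1)))
  · exact (h5_2.trans (by rw [mul_one]) : cj q p = q * 1)
  · exact (h5_3.trans (by rw [mul_one]) : cj k p = k * 1)
  · exact (h5_4.trans (by rw [mul_one]) : cj w p = w * 1)
  · exact h5_5
  · exact (h6_0.trans (by rw [mul_one]) : cj y t = y * 1)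
  · exact (h6_1.trans (by rw [mul_one]) : cj v t = v * 1)
  · exact (h6_2.trans (by rw [mul_one]) : cj q t = q * (y * 1))
  · exact (h6_3.trans (by rw [mul_one]) : cj k t = k * (v * 1))
  · exact (h6_4.trans (by rw [mul_one]) : cj w t = w * 1)
  · exact (h6_5.trans (by rw [mul_one]) : cj p t = p * (w * 1))
  · exact h6_6

theorem ex {Γ : Type*} [Group Γ] {t p w k q v y : Γ}
    (h : y * y = 1 ∧ v * v = 1 ∧ cj y v = y ∧ q * q = 1 ∧ cj y q = y ∧ cj v q = v ∧ k * k = 1 ∧ cj y k = y ∧ cj v k = v ∧ cj q k = q ∧ w * w = 1 ∧ cj y w = y ∧ cj v w = v * y ∧ cj q w = q ∧ cj k w = k * q ∧ p * p = 1 ∧ cj y p = y ∧ cj v p = q * (v * y) ∧ cj q p = q ∧ cj k p = k ∧ cj w p = w ∧ t * t = 1 ∧ cj y t = y ∧ cj v t = v ∧ cj q t = q * y ∧ cj k t = k * v ∧ cj w t = w ∧ cj p t = p * w) :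
    ∃ φ : El MU  →* Γ, φ T = t ∧ φ P = p ∧ φ W = w ∧ φ K = k ∧ φ Q = q ∧ φ V = v ∧ φ Y = y :=
  ⟨El.lift (rel h), El.lift_gen (rel h) (i := 6) (by decide), El.lift_gen (rel h) (i := 5) (by decide), El.lift_gen (rel h) (i := 4) (by decide), El.lift_gen (rel h) (i := 3) (by decide), El.lift_gen (rel h) (i := 2) (by decide), El.lift_gen (rel h) (i := 1) (by decide), El.lift_gen (rel h) (i := 0) (by decide)⟩

/-- substitution -/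
noncomputable def sb {Ξ : Type*} [Monoid Ξ] (T' P' W' K' Q' V' Y' : Ξ) (u : El MU) : Ξ := El.sub [Y', V', Q', K', W', P', T'] u

theorem actM {Γ Ξ : Type*} [Group Γ] [Group Ξ] (φ : El MU  →* Γ) (ψ : Ξ  →* Γ) (γ : Γ) (m : ℕ) {T' P' W' K' Q' V' Y' : Ξ}
    (ht : tb m 6 = true → cj (φ T) γ = ψ T') (hp : tb m 5 = true → cj (φ P) γ = ψ P') (hw : tb m 4 = true → cj (φ W) γ = ψ W') (hk : tb m 3 = true → cj (φ K) γ = ψ K') (hq : tb m 2 = true → cj (φ Q) γ = ψ Q') (hv : tb m 1 = true → cj (φ V) γ = ψ V') (hy : tb m 0 = true → cj (φ Y) γ = ψ Y') {u : El MU} (hu : El.In m u) :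
    cj (φ u) γ = ψ (sb T' P' W' K' Q' V' Y' u) := by
  refine El.actM φ ψ γ _ m (fun i hi => ?_) hu
  change i < 7 at hi
  interval_cases i <;> assumption

theorem act {Γ Ξ : Type*} [Group Γ] [Group Ξ] (φ : El MU  →* Γ) (ψ : Ξ  →* Γ) (γ : Γ) {T' P' W' K' Q' V' Y' : Ξ}
    (ht : cj (φ T) γ = ψ T') (hp : cj (φ P) γ = ψ P') (hw : cj (φ W) γ = ψ W') (hk : cj (φ K) γ = ψ K') (hq : cj (φ Q) γ = ψ Q') (hv : cj (φ V) γ = ψ V') (hy : cj (φ Y) γ = ψ Y') (u : El MU) :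
    cj (φ u) γ = ψ (sb T' P' W' K' Q' V' Y' u) := by
  refine El.act φ ψ γ _ (fun i hi => ?_) u
  change i < 7 at hi
  interval_cases i <;> assumption

theorem memM {Γ : Type*} [Group Γ] (φ : El MU  →* Γ) {Λ : Subgroup Γ} (m : ℕ)
    (ht : tb m 6 = true → φ T ∈ Λ) (hp : tb m 5 = true → φ P ∈ Λ) (hw : tb m 4 = true → φ W ∈ Λ) (hk : tb m 3 = true → φ K ∈ Λ) (hq : tb m 2 = true → φ Q ∈ Λ) (hv : tb m 1 = true → φ V ∈ Λ) (hy : tb m 0 = true → φ Y ∈ Λ) {u : El MU} (hu : El.In m u) : φ u ∈ Λ := by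
  refine El.memM φ m (fun i hi => ?_) hu
  change i < 7 at hi
  interval_cases i <;> assumption

theorem mem {Γ : Type*} [Group Γ] (φ : El MU  →* Γ) {Λ : Subgroup Γ}
    (ht : φ T ∈ Λ) (hp : φ P ∈ Λ) (hw : φ W ∈ Λ) (hk : φ K ∈ Λ) (hq : φ Q ∈ Λ) (hv : φ V ∈ Λ) (hy : φ Y ∈ Λ) (u : El MU) : φ u ∈ Λ := by
  refine El.mem φ (fun i hi => ?_) u
  change i < 7 at hi
  interval_cases i <;> assumption

theorem inj {Γ : Type*} [Group Γ] (φ : El MU  →* Γ)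
    (h0 : φ Y ≠ 1) : Function.Injective φ := by
  refine El.inj φ [Y] (by decide +kernel) fun z hz => ?_
  simp only [List.mem_cons, List.not_mem_nil, or_false] at hz
  rcases hz with rfl <;> simpa only [map_mul]

theorem qex {Γ : Type*} [Group Γ] (N : Subgroup Γ) {t p w k q v y : Γ}
    (hn : t ∈ Subgroup.normalizer (N : Set Γ) ∧ p ∈ Subgroup.normalizer (N : Set Γ) ∧ w ∈ Subgroup.normalizer (N : Set Γ) ∧ k ∈ Subgroup.normalizer (N : Set Γ) ∧ q ∈ Subgroup.normalizer (N : Set Γ) ∧ v ∈ Subgroup.normalizer (N : Set Γ) ∧ y ∈ Subgroup.normalizer (N : Set Γ))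
    (h : y * y ∈ N ∧ v * v ∈ N ∧ (cj y v)⁻¹ * (y) ∈ N ∧ q * q ∈ N ∧ (cj y q)⁻¹ * (y) ∈ N ∧ (cj v q)⁻¹ * (v) ∈ N ∧ k * k ∈ N ∧ (cj y k)⁻¹ * (y) ∈ N ∧ (cj v k)⁻¹ * (v) ∈ N ∧ (cj q k)⁻¹ * (q) ∈ N ∧ w * w ∈ N ∧ (cj y w)⁻¹ * (y) ∈ N ∧ (cj v w)⁻¹ * (v * y) ∈ N ∧ (cj q w)⁻¹ * (q) ∈ N ∧ (cj k w)⁻¹ * (k * q) ∈ N ∧ p * p ∈ N ∧ (cj y p)⁻¹ * (y) ∈ N ∧ (cj v p)⁻¹ * (q * (v * y)) ∈ N ∧ (cj q p)⁻¹ * (q) ∈ N ∧ (cj k p)⁻¹ * (k) ∈ N ∧ (cj w p)⁻¹ * (w) ∈ N ∧ t * t ∈ N ∧ (cj y t)⁻¹ * (y) ∈ N ∧ (cj v t)⁻¹ * (v) ∈ N ∧ (cj q t)⁻¹ * (q * y) ∈ N ∧ (cj k t)⁻¹ * (k * v) ∈ N ∧ (cj w t)⁻¹ * (w) ∈ N ∧ (cj p t)⁻¹ * (p * w) ∈ N)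
    (hz : y ∉ N) :
    ∃ R : Γ → El MU → Prop, QM N R ∧ R t T ∧ R p P ∧ R w W ∧ R k K ∧ R q Q ∧ R v V ∧ R y Y := by
  obtain ⟨nt, np, nw, nk, nq, nv, ny⟩ := hn
  obtain ⟨h0_0, h1_1, h1_0, h2_2, h2_0, h2_1, h3_3, h3_0, h3_1, h3_2, h4_4, h4_0, h4_1, h4_2, h4_3, h5_5, h5_0, h5_1, h5_2, h5_3, h5_4, h6_6, h6_0, h6_1, h6_2, h6_3, h6_4, h6_5⟩ := h
  obtain ⟨ψ, et, ep, ew, ek, eq, ev, ey⟩ := ex (t := qp N ⟨t, nt⟩) (p := qp N ⟨p, np⟩) (w := qp N ⟨w, nw⟩) (k := qp N ⟨k, nk⟩) (q := qp N ⟨q, nq⟩) (v := qp N ⟨v, nv⟩) (y := qp N ⟨y, ny⟩) ⟨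
    (map_mul (qp N) ⟨y, ny⟩ ⟨y, ny⟩).symm.trans ((qone _).2 h0_0),
    (map_mul (qp N) ⟨v, nv⟩ ⟨v, nv⟩).symm.trans ((qone _).2 h1_1),
    (map_cj (qp N) ⟨y, ny⟩ ⟨v, nv⟩).symm.trans (qrel _ _ h1_0),
    (map_mul (qp N) ⟨q, nq⟩ ⟨q, nq⟩).symm.trans ((qone _).2 h2_2),
    (map_cj (qp N) ⟨y, ny⟩ ⟨q, nq⟩).symm.trans (qrel _ _ h2_0),
    (map_cj (qp N) ⟨v, nv⟩ ⟨q, nq⟩).symm.trans (qrel _ _ h2_1),
    (map_mul (qp N) ⟨k, nk⟩ ⟨k, nk⟩).symm.trans ((qone _).2 h3_3),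
    (map_cj (qp N) ⟨y, ny⟩ ⟨k, nk⟩).symm.trans (qrel _ _ h3_0),
    (map_cj (qp N) ⟨v, nv⟩ ⟨k, nk⟩).symm.trans (qrel _ _ h3_1),
    (map_cj (qp N) ⟨q, nq⟩ ⟨k, nk⟩).symm.trans (qrel _ _ h3_2),
    (map_mul (qp N) ⟨w, nw⟩ ⟨w, nw⟩).symm.trans ((qone _).2 h4_4),
    (map_cj (qp N) ⟨y, ny⟩ ⟨w, nw⟩).symm.trans (qrel _ _ h4_0),
    (map_cj (qp N) ⟨v, nv⟩ ⟨w, nw⟩).symm.trans ((qrel _ (⟨v, nv⟩ * ⟨y, ny⟩) h4_1).trans (by simp only [map_mul])),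
    (map_cj (qp N) ⟨q, nq⟩ ⟨w, nw⟩).symm.trans (qrel _ _ h4_2),
    (map_cj (qp N) ⟨k, nk⟩ ⟨w, nw⟩).symm.trans ((qrel _ (⟨k, nk⟩ * ⟨q, nq⟩) h4_3).trans (by simp only [map_mul])),
    (map_mul (qp N) ⟨p, np⟩ ⟨p, np⟩).symm.trans ((qone _).2 h5_5),
    (map_cj (qp N) ⟨y, ny⟩ ⟨p, np⟩).symm.trans (qrel _ _ h5_0),
    (map_cj (qp N) ⟨v, nv⟩ ⟨p, np⟩).symm.trans ((qrel _ (⟨q, nq⟩ * (⟨v, nv⟩ * ⟨y, ny⟩)) h5_1).trans (by simp only [map_mul])),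
    (map_cj (qp N) ⟨q, nq⟩ ⟨p, np⟩).symm.trans (qrel _ _ h5_2),
    (map_cj (qp N) ⟨k, nk⟩ ⟨p, np⟩).symm.trans (qrel _ _ h5_3),
    (map_cj (qp N) ⟨w, nw⟩ ⟨p, np⟩).symm.trans (qrel _ _ h5_4),
    (map_mul (qp N) ⟨t, nt⟩ ⟨t, nt⟩).symm.trans ((qone _).2 h6_6),
    (map_cj (qp N) ⟨y, ny⟩ ⟨t, nt⟩).symm.trans (qrel _ _ h6_0),
    (map_cj (qp N) ⟨v, nv⟩ ⟨t, nt⟩).symm.trans (qrel _ _ h6_1),
    (map_cj (qp N) ⟨q, nq⟩ ⟨t, nt⟩).symm.trans ((qrel _ (⟨q, nq⟩ * ⟨y, ny⟩) h6_2).trans (by simp only [map_mul])),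
    (map_cj (qp N) ⟨k, nk⟩ ⟨t, nt⟩).symm.trans ((qrel _ (⟨k, nk⟩ * ⟨v, nv⟩) h6_3).trans (by simp only [map_mul])),
    (map_cj (qp N) ⟨w, nw⟩ ⟨t, nt⟩).symm.trans (qrel _ _ h6_4),
    (map_cj (qp N) ⟨p, np⟩ ⟨t, nt⟩).symm.trans ((qrel _ (⟨p, np⟩ * ⟨w, nw⟩) h6_5).trans (by simp only [map_mul]))⟩
  exact ⟨_, QM.of_hom ψ (inj ψ (by
    rw [ey]
    exact fun h => hz ((qone _).1 h))), ⟨nt, et.symm⟩, ⟨np, ep.symm⟩, ⟨nw, ew.symm⟩, ⟨nk, ek.symm⟩, ⟨nq, eq.symm⟩, ⟨nv, ev.symm⟩, ⟨ny, ey.symm⟩⟩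

end MU

/-- tables of a group of order 128 -/
def MV : Pc := ⟨7, 127, 0x596f577f7f7f2db5afb7af9fd75cd3d7cfff8beee8e9e3f7d537f773ffe7d28bdbf97ef1ed5d8dbc7efbf0aacece1f3d794d4b37fe7d7b27a79ff72e9dd255cbf78f7e896a64f9c3b75475b17befc7922af8fd76e1cd0d1c3e7af3e082860f1d3971792fd67d7b773d95ef36ad9bdf4cf3974efd8fe6f8c9a376d733ff63dfa75389dff16ed1addc8fb876ebd0ea4fcc1b35696d0bb6fc79733787df762c99da45ebb70e7c8d6274d983365671b96bcf871328fcf566c18d8c1e3a72e3c0c2070d19316139ee557b776f1df52eb5ab97cf7c9356cdfb87fec8a962f5d33fe753bf66d18fd3e95eb16cdf89b46edbb06bccca172d592dca35fa756b17e71ef52a95ca758b768d7a857a44b942b5527da15baf46912ef0ed56a14c8f18366ad3a043840b15295119aed47973670dd56e34a993c76cb3164cf983f6d8892274d13bef439f26508dd7e14e912c5e8bb066cb902b4dc81325490d8ab4f8716307c75e742891c265ab360c788172549902345079a94b8f06102cf4e546810c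0e1a3262c380030509112141d86d53776f5f6d34adb3a78ff71c52d5cbf79bcea868e1f3dd27d7337ee5d683cbd93e70ef5985ac5ebb71a8cac60f1d39cc4933f66d5b67269df3268df2154af58b76994a2478c1b35c65913b6ec59622e8dd3660cf09142e5ab3618082070d1931f82dd2756b577d14ed32a58bff0c72954af59fc6b848a172df23df235ea55781cfd12e50afd887a856ab51e84bc40b1529ec09b2f469537706dd722489fa056ab50a749d42345881325e61992b4e851720ecd526408f88162a52a341c00305091121b8ec5173674f5d742cb1a387ef3c1254c9f397de882860f1db2fc7133e64d587c3c91e306edb81a44e9b3169c8c2070d19acc831f2654b57661cf12285ea350a748972955a043840b15a6d811b2e449526e0cd16204e8b10264a932141800305091198acd07163474d546c30a183e72c321448f193d698082070d92bcf031e245485c7c10e102e5a83a0468b112949c00305098c88b0f0614347465c702081e2252a3408709152141800305869890b0e041424e4c506000e0a1222428301010101010101, 0xdbb356bd1a77eec78b265cd9f0e0f3e3ffef9f7d7be5cfa75efdb8f0b166ddabb72f5faf5aa55a54e8d0993674f93225ca8d1e245870a0c07cfdc3974ede3d66c9ab46ed98b056a962d5eb9429448d2a44c9d0a0346cc983c7ce9c2c5ca94244c8901e3868c16284880e182840608080,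 0x604050504040002024207020000018101810000000080808000000000404000000000002000000000000⟩

instance MV_ok : MV.OK := ⟨by decide +kernel⟩

namespace MV

noncomputable def T : El MV := El.gen 6
noncomputable def P : El MV := El.gen 5
noncomputable def W : El MV := El.gen 4
noncomputable def K : El MV := El.gen 3
noncomputable def Q : El MV := El.gen 2
noncomputable def V : El MV := El.gen 1
noncomputable def Y : El MV := El.gen 0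

theorem rel {Γ : Type*} [Group Γ] {t p w k q v y : Γ}
    (h : y * y = 1 ∧ v * v = 1 ∧ cj y v = y ∧ q * q = 1 ∧ cj y q = y ∧ cj v q = v ∧ k * k = 1 ∧ cj y k = y ∧ cj v k = v ∧ cj q k = q ∧ w * w = 1 ∧ cj y w = y ∧ cj v w = v * y ∧ cj q w = q ∧ cj k w = k * q ∧ p * p = 1 ∧ cj y p = y ∧ cj v p = q * (v * y) ∧ cj q p = q ∧ cj k p = k * y ∧ cj w p = w ∧ t * t = 1 ∧ cj y t = y ∧ cj v t = v ∧ cj q t = q * y ∧ cj k t = k * v ∧ cj w t = w ∧ cj p t = p * w) :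
    MV.Rel (nt [y, v, q, k, w, p, t]) := by
  obtain ⟨h0_0, h1_1, h1_0, h2_2, h2_0, h2_1, h3_3, h3_0, h3_1, h3_2, h4_4, h4_0, h4_1, h4_2, h4_3, h5_5, h5_0, h5_1, h5_2, h5_3, h5_4, h6_6, h6_0, h6_1, h6_2, h6_3, h6_4, h6_5⟩ := h
  refine Pc.rel_of fun i hi j hj => ?_
  change i < 7 at hi
  interval_cases i <;> interval_cases j
  · exact h0_0
  · exact (h1_0.trans (by rw [mul_one]) : cj y v = y * 1)
  · exact h1_1
  · exact (h2_0.trans (by rw [mul_one]) : cj y q = y * 1)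
  · exact (h2_1.trans (by rw [mul_one]) : cj v q = v * 1)
  · exact h2_2
  · exact (h3_0.trans (by rw [mul_one]) : cj y k = y * 1)
  · exact (h3_1.trans (by rw [mul_one]) : cj v k = v * 1)
  · exact (h3_2.trans (by rw [mul_one]) : cj q k = q * 1)
  · exact h3_3
  · exact (h4_0.trans (by rw [mul_one]) : cj y w = y * 1)
  · exact (h4_1.trans (by rw [mul_one]) : cj v w = v * (y * 1))
  · exact (h4_2.trans (by rw [mul_one]) : cj q w = q * 1)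
  · exact (h4_3.trans (by rw [mul_one]) : cj k w = k * (q * 1))
  · exact h4_4
  · exact (h5_0.trans (by rw [mul_one]) : cj y p = y * 1)
  · exact (h5_1.trans (by rw [mul_one]) : cj v p = q * (v * (y * 1)))
  · exact (h5_2.trans (by rw [mul_one]) : cj q p = q * 1)
  · exact (h5_3.trans (by rw [mul_one]) : cj k p = k * (y * 1))
  · exact (h5_4.trans (by rw [mul_one]) : cj w p = w * 1)
  · exact h5_5
  · exact (h6_0.trans (by rw [mul_one]) : cj y t = y * 1)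
  · exact (h6_1.trans (by rw [mul_one]) : cj v t = v * 1)
  · exact (h6_2.trans (by rw [mul_one]) : cj q t = q * (y * 1))
  · exact (h6_3.trans (by rw [mul_one]) : cj k t = k * (v * 1))
  · exact (h6_4.trans (by rw [mul_one]) : cj w t = w * 1)
  · exact (h6_5.trans (by rw [mul_one]) : cj p t = p * (w * 1))
  · exact h6_6

theorem ex {Γ : Type*} [Group Γ] {t p w k q v y : Γ}
    (h : y * y = 1 ∧ v * v = 1 ∧ cj y v = y ∧ q * q = 1 ∧ cj y q = y ∧ cj v q = v ∧ k * k = 1 ∧ cj y k = y ∧ cj v k = v ∧ cj q k = q ∧ w * w = 1 ∧ cj y w = y ∧ cj v w = v * y ∧ cj q w = q ∧ cj k w = k * q ∧ p * p = 1 ∧ cj y p = y ∧ cj v p = q * (v * y) ∧ cj q p = q ∧ cj k p = k * y ∧ cj w p = w ∧ t * t = 1 ∧ cj y t = y ∧ cj v t = v ∧ cj q t = q * y ∧ cj k t = k * v ∧ cj w t = w ∧ cj p t = p * w) :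
    ∃ φ : El MV  →* Γ, φ T = t ∧ φ P = p ∧ φ W = w ∧ φ K = k ∧ φ Q = q ∧ φ V = v ∧ φ Y = y :=
  ⟨El.lift (rel h), El.lift_gen (rel h) (i := 6) (by decide), El.lift_gen (rel h) (i := 5) (by decide), El.lift_gen (rel h) (i := 4) (by decide), El.lift_gen (rel h) (i := 3) (by decide), El.lift_gen (rel h) (i := 2) (by decide), El.lift_gen (rel h) (i := 1) (by decide), El.lift_gen (rel h) (i := 0) (by decide)⟩

/-- substitution -/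
noncomputable def sb {Ξ : Type*} [Monoid Ξ] (T' P' W' K' Q' V' Y' : Ξ) (u : El MV) : Ξ := El.sub [Y', V', Q', K', W', P', T'] u

theorem actM {Γ Ξ : Type*} [Group Γ] [Group Ξ] (φ : El MV  →* Γ) (ψ : Ξ  →* Γ) (γ : Γ) (m : ℕ) {T' P' W' K' Q' V' Y' : Ξ}
    (ht : tb m 6 = true → cj (φ T) γ = ψ T') (hp : tb m 5 = true → cj (φ P) γ = ψ P') (hw : tb m 4 = true → cj (φ W) γ = ψ W') (hk : tb m 3 = true → cj (φ K) γ = ψ K') (hq : tb m 2 = true → cj (φ Q) γ = ψ Q') (hv : tb m 1 = true → cj (φ V) γ = ψ V') (hy : tb m 0 = true → cj (φ Y) γ = ψ Y') {u : El MV} (hu : El.In m u) :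
    cj (φ u) γ = ψ (sb T' P' W' K' Q' V' Y' u) := by
  refine El.actM φ ψ γ _ m (fun i hi => ?_) hu
  change i < 7 at hi
  interval_cases i <;> assumption

theorem act {Γ Ξ : Type*} [Group Γ] [Group Ξ] (φ : El MV  →* Γ) (ψ : Ξ  →* Γ) (γ : Γ) {T' P' W' K' Q' V' Y' : Ξ}
    (ht : cj (φ T) γ = ψ T') (hp : cj (φ P) γ = ψ P') (hw : cj (φ W) γ = ψ W') (hk : cj (φ K) γ = ψ K') (hq : cj (φ Q) γ = ψ Q') (hv : cj (φ V) γ = ψ V') (hy : cj (φ Y) γ = ψ Y') (u : El MV) :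
    cj (φ u) γ = ψ (sb T' P' W' K' Q' V' Y' u) := by
  refine El.act φ ψ γ _ (fun i hi => ?_) u
  change i < 7 at hi
  interval_cases i <;> assumption

theorem memM {Γ : Type*} [Group Γ] (φ : El MV  →* Γ) {Λ : Subgroup Γ} (m : ℕ)
    (ht : tb m 6 = true → φ T ∈ Λ) (hp : tb m 5 = true → φ P ∈ Λ) (hw : tb m 4 = true → φ W ∈ Λ) (hk : tb m 3 = true → φ K ∈ Λ) (hq : tb m 2 = true → φ Q ∈ Λ) (hv : tb m 1 = true → φ V ∈ Λ) (hy : tb m 0 = true → φ Y ∈ Λ) {u : El MV} (hu : El.In m u) : φ u ∈ Λ := by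
  refine El.memM φ m (fun i hi => ?_) hu
  change i < 7 at hi
  interval_cases i <;> assumption

theorem mem {Γ : Type*} [Group Γ] (φ : El MV  →* Γ) {Λ : Subgroup Γ}
    (ht : φ T ∈ Λ) (hp : φ P ∈ Λ) (hw : φ W ∈ Λ) (hk : φ K ∈ Λ) (hq : φ Q ∈ Λ) (hv : φ V ∈ Λ) (hy : φ Y ∈ Λ) (u : El MV) : φ u ∈ Λ := by
  refine El.mem φ (fun i hi => ?_) u
  change i < 7 at hi
  interval_cases i <;> assumption

theorem inj {Γ : Type*} [Group Γ] (φ : El MV  →* Γ)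
    (h0 : φ Y ≠ 1) : Function.Injective φ := by
  refine El.inj φ [Y] (by decide +kernel) fun z hz => ?_
  simp only [List.mem_cons, List.not_mem_nil, or_false] at hz
  rcases hz with rfl <;> simpa only [map_mul]

theorem qex {Γ : Type*} [Group Γ] (N : Subgroup Γ) {t p w k q v y : Γ}
    (hn : t ∈ Subgroup.normalizer (N : Set Γ) ∧ p ∈ Subgroup.normalizer (N : Set Γ) ∧ w ∈ Subgroup.normalizer (N : Set Γ) ∧ k ∈ Subgroup.normalizer (N : Set Γ) ∧ q ∈ Subgroup.normalizer (N : Set Γ) ∧ v ∈ Subgroup.normalizer (N : Set Γ) ∧ y ∈ Subgroup.normalizer (N : Set Γ))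
    (h : y * y ∈ N ∧ v * v ∈ N ∧ (cj y v)⁻¹ * (y) ∈ N ∧ q * q ∈ N ∧ (cj y q)⁻¹ * (y) ∈ N ∧ (cj v q)⁻¹ * (v) ∈ N ∧ k * k ∈ N ∧ (cj y k)⁻¹ * (y) ∈ N ∧ (cj v k)⁻¹ * (v) ∈ N ∧ (cj q k)⁻¹ * (q) ∈ N ∧ w * w ∈ N ∧ (cj y w)⁻¹ * (y) ∈ N ∧ (cj v w)⁻¹ * (v * y) ∈ N ∧ (cj q w)⁻¹ * (q) ∈ N ∧ (cj k w)⁻¹ * (k * q) ∈ N ∧ p * p ∈ N ∧ (cj y p)⁻¹ * (y) ∈ N ∧ (cj v p)⁻¹ * (q * (v * y)) ∈ N ∧ (cj q p)⁻¹ * (q) ∈ N ∧ (cj k p)⁻¹ * (k * y) ∈ N ∧ (cj w p)⁻¹ * (w) ∈ N ∧ t * t ∈ N ∧ (cj y t)⁻¹ * (y) ∈ N ∧ (cj v t)⁻¹ * (v) ∈ N ∧ (cj q t)⁻¹ * (q * y) ∈ N ∧ (cj k t)⁻¹ * (k * v) ∈ N ∧ (cj w t)⁻¹ * (w) ∈ N ∧ (cj p t)⁻¹ * (p * w) ∈ N)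
    (hz : y ∉ N) :
    ∃ R : Γ → El MV → Prop, QM N R ∧ R t T ∧ R p P ∧ R w W ∧ R k K ∧ R q Q ∧ R v V ∧ R y Y := by
  obtain ⟨nt, np, nw, nk, nq, nv, ny⟩ := hn
  obtain ⟨h0_0, h1_1, h1_0, h2_2, h2_0, h2_1, h3_3, h3_0, h3_1, h3_2, h4_4, h4_0, h4_1, h4_2, h4_3, h5_5, h5_0, h5_1, h5_2, h5_3, h5_4, h6_6, h6_0, h6_1, h6_2, h6_3, h6_4, h6_5⟩ := h
  obtain ⟨ψ, et, ep, ew, ek, eq, ev, ey⟩ := ex (t := qp N ⟨t, nt⟩) (p := qp N ⟨p, np⟩) (w := qp N ⟨w, nw⟩) (k := qp N ⟨k, nk⟩) (q := qp N ⟨q, nq⟩) (v := qp N ⟨v, nv⟩) (y := qp N ⟨y, ny⟩) ⟨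
    (map_mul (qp N) ⟨y, ny⟩ ⟨y, ny⟩).symm.trans ((qone _).2 h0_0),
    (map_mul (qp N) ⟨v, nv⟩ ⟨v, nv⟩).symm.trans ((qone _).2 h1_1),
    (map_cj (qp N) ⟨y, ny⟩ ⟨v, nv⟩).symm.trans (qrel _ _ h1_0),
    (map_mul (qp N) ⟨q, nq⟩ ⟨q, nq⟩).symm.trans ((qone _).2 h2_2),
    (map_cj (qp N) ⟨y, ny⟩ ⟨q, nq⟩).symm.trans (qrel _ _ h2_0),
    (map_cj (qp N) ⟨v, nv⟩ ⟨q, nq⟩).symm.trans (qrel _ _ h2_1),
    (map_mul (qp N) ⟨k, nk⟩ ⟨k, nk⟩).symm.trans ((qone _).2 h3_3),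
    (map_cj (qp N) ⟨y, ny⟩ ⟨k, nk⟩).symm.trans (qrel _ _ h3_0),
    (map_cj (qp N) ⟨v, nv⟩ ⟨k, nk⟩).symm.trans (qrel _ _ h3_1),
    (map_cj (qp N) ⟨q, nq⟩ ⟨k, nk⟩).symm.trans (qrel _ _ h3_2),
    (map_mul (qp N) ⟨w, nw⟩ ⟨w, nw⟩).symm.trans ((qone _).2 h4_4),
    (map_cj (qp N) ⟨y, ny⟩ ⟨w, nw⟩).symm.trans (qrel _ _ h4_0),
    (map_cj (qp N) ⟨v, nv⟩ ⟨w, nw⟩).symm.trans ((qrel _ (⟨v, nv⟩ * ⟨y, ny⟩) h4_1).trans (by simp only [map_mul])),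
    (map_cj (qp N) ⟨q, nq⟩ ⟨w, nw⟩).symm.trans (qrel _ _ h4_2),
    (map_cj (qp N) ⟨k, nk⟩ ⟨w, nw⟩).symm.trans ((qrel _ (⟨k, nk⟩ * ⟨q, nq⟩) h4_3).trans (by simp only [map_mul])),
    (map_mul (qp N) ⟨p, np⟩ ⟨p, np⟩).symm.trans ((qone _).2 h5_5),
    (map_cj (qp N) ⟨y, ny⟩ ⟨p, np⟩).symm.trans (qrel _ _ h5_0),
    (map_cj (qp N) ⟨v, nv⟩ ⟨p, np⟩).symm.trans ((qrel _ (⟨q, nq⟩ * (⟨v, nv⟩ * ⟨y, ny⟩)) h5_1).trans (by simp only [map_mul])),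
    (map_cj (qp N) ⟨q, nq⟩ ⟨p, np⟩).symm.trans (qrel _ _ h5_2),
    (map_cj (qp N) ⟨k, nk⟩ ⟨p, np⟩).symm.trans ((qrel _ (⟨k, nk⟩ * ⟨y, ny⟩) h5_3).trans (by simp only [map_mul])),
    (map_cj (qp N) ⟨w, nw⟩ ⟨p, np⟩).symm.trans (qrel _ _ h5_4),
    (map_mul (qp N) ⟨t, nt⟩ ⟨t, nt⟩).symm.trans ((qone _).2 h6_6),
    (map_cj (qp N) ⟨y, ny⟩ ⟨t, nt⟩).symm.trans (qrel _ _ h6_0),
    (map_cj (qp N) ⟨v, nv⟩ ⟨t, nt⟩).symm.trans (qrel _ _ h6_1),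
    (map_cj (qp N) ⟨q, nq⟩ ⟨t, nt⟩).symm.trans ((qrel _ (⟨q, nq⟩ * ⟨y, ny⟩) h6_2).trans (by simp only [map_mul])),
    (map_cj (qp N) ⟨k, nk⟩ ⟨t, nt⟩).symm.trans ((qrel _ (⟨k, nk⟩ * ⟨v, nv⟩) h6_3).trans (by simp only [map_mul])),
    (map_cj (qp N) ⟨w, nw⟩ ⟨t, nt⟩).symm.trans (qrel _ _ h6_4),
    (map_cj (qp N) ⟨p, np⟩ ⟨t, nt⟩).symm.trans ((qrel _ (⟨p, np⟩ * ⟨w, nw⟩) h6_5).trans (by simp only [map_mul]))⟩
  exact ⟨_, QM.of_hom ψ (inj ψ (by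
    rw [ey]
    exact fun h => hz ((qone _).1 h))), ⟨nt, et.symm⟩, ⟨np, ep.symm⟩, ⟨nw, ew.symm⟩, ⟨nk, ek.symm⟩, ⟨nq, eq.symm⟩, ⟨nv, ev.symm⟩, ⟨ny, ey.symm⟩⟩

end MV

/-- tables of a group of order 64 -/
def MC : Pc := ⟨6, 63, 0x5aadbbf7e5ebdfaf3f52dd79ffc56cd38fbd4eecbfe7a4afcfee3b469c7def8428c3ceb97a2fb3d767e3ff2d37725f71df4764f30db56e6eb7c726a7ef6c33661e75cf0620e34cb13ba9abb6e3fb9eab2f33d969bec37c928bad2fe8afa6a2bf8eea2b27986dae823882caa91b2ba39661f3be2927135b619e4174b209a50f6aa78620b7ae6823071a658e0030a248a1d8a59b75edcb5da71fd0d5597dcd4c51879dcce49f65ac8f4de61bc4945d6d8c0841c699f82793556fc37d2517f057515d4f44710595ec6697452e876d6413e416554d0e00614491b9a18b34ebdb1ca30fb1d1493ccb5c10838dade08f24aa9f0ce20ba5904d2c8a1800c2899923831469d33c21079153411c49543001858d62870428972c60038512450c0810204081, 0xcf2d35db7c70ebbf3dffee78beeb2daaba689a79258e28606da75c7de65849355459745038f34c28b2481c61440c2040,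 0x182050810002041c10000040c1000000081000000001000000000⟩

instance MC_ok : MC.OK := ⟨by decide +kernel⟩

namespace MC

noncomputable def T : El MC := El.gen 5
noncomputable def P : El MC := El.gen 4
noncomputable def W : El MC := El.gen 3
noncomputable def Q : El MC := El.gen 2
noncomputable def V : El MC := El.gen 1
noncomputable def Y : El MC := El.gen 0

theorem rel {Γ : Type*} [Group Γ] {t p w q v y : Γ}
    (h : y * y = 1 ∧ v * v = 1 ∧ cj y v = y ∧ q * q = 1 ∧ cj y q = y ∧ cj v q = v ∧ w * w = 1 ∧ cj y w = y ∧ cj v w = v * y ∧ cj q w = q ∧ p * p = 1 ∧ cj y p = y ∧ cj v p = q * (v * y) ∧ cj q p = q ∧ cj w p = w ∧ t * t = 1 ∧ cj y t = y ∧ cj v t = v ∧ cj q t = q * y ∧ cj w t = w ∧ cj p t = p * w) :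
    MC.Rel (nt [y, v, q, w, p, t]) := by
  obtain ⟨h0_0, h1_1, h1_0, h2_2, h2_0, h2_1, h3_3, h3_0, h3_1, h3_2, h4_4, h4_0, h4_1, h4_2, h4_3, h5_5, h5_0, h5_1, h5_2, h5_3, h5_4⟩ := h
  refine Pc.rel_of fun i hi j hj => ?_
  change i < 6 at hi
  interval_cases i <;> interval_cases j
  · exact h0_0
  · exact (h1_0.trans (by rw [mul_one]) : cj y v = y * 1)
  · exact h1_1
  · exact (h2_0.trans (by rw [mul_one]) : cj y q = y * 1)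
  · exact (h2_1.trans (by rw [mul_one]) : cj v q = v * 1)
  · exact h2_2
  · exact (h3_0.trans (by rw [mul_one]) : cj y w = y * 1)
  · exact (h3_1.trans (by rw [mul_one]) : cj v w = v * (y * 1))
  · exact (h3_2.trans (by rw [mul_one]) : cj q w = q * 1)
  · exact h3_3
  · exact (h4_0.trans (by rw [mul_one]) : cj y p = y * 1)
  · exact (h4_1.trans (by rw [mul_one]) : cj v p = q * (v * (y * 1)))
  · exact (h4_2.trans (by rw [mul_one]) : cj q p = q * 1)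
  · exact (h4_3.trans (by rw [mul_one]) : cj w p = w * 1)
  · exact h4_4
  · exact (h5_0.trans (by rw [mul_one]) : cj y t = y * 1)
  · exact (h5_1.trans (by rw [mul_one]) : cj v t = v * 1)
  · exact (h5_2.trans (by rw [mul_one]) : cj q t = q * (y * 1))
  · exact (h5_3.trans (by rw [mul_one]) : cj w t = w * 1)
  · exact (h5_4.trans (by rw [mul_one]) : cj p t = p * (w * 1))
  · exact h5_5

theorem ex {Γ : Type*} [Group Γ] {t p w q v y : Γ}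
    (h : y * y = 1 ∧ v * v = 1 ∧ cj y v = y ∧ q * q = 1 ∧ cj y q = y ∧ cj v q = v ∧ w * w = 1 ∧ cj y w = y ∧ cj v w = v * y ∧ cj q w = q ∧ p * p = 1 ∧ cj y p = y ∧ cj v p = q * (v * y) ∧ cj q p = q ∧ cj w p = w ∧ t * t = 1 ∧ cj y t = y ∧ cj v t = v ∧ cj q t = q * y ∧ cj w t = w ∧ cj p t = p * w) :
    ∃ φ : El MC  →* Γ, φ T = t ∧ φ P = p ∧ φ W = w ∧ φ Q = q ∧ φ V = v ∧ φ Y = y :=
  ⟨El.lift (rel h), El.lift_gen (rel h) (i := 5) (by decide), El.lift_gen (rel h) (i := 4) (by decide), El.lift_gen (rel h) (i := 3) (by decide), El.lift_gen (rel h) (i := 2) (by decide), El.lift_gen (rel h) (i := 1) (by decide), El.lift_gen (rel h) (i := 0) (by decide)⟩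

/-- substitution -/
noncomputable def sb {Ξ : Type*} [Monoid Ξ] (T' P' W' Q' V' Y' : Ξ) (u : El MC) : Ξ := El.sub [Y', V', Q', W', P', T'] u

theorem actM {Γ Ξ : Type*} [Group Γ] [Group Ξ] (φ : El MC  →* Γ) (ψ : Ξ  →* Γ) (γ : Γ) (m : ℕ) {T' P' W' Q' V' Y' : Ξ}
    (ht : tb m 5 = true → cj (φ T) γ = ψ T') (hp : tb m 4 = true → cj (φ P) γ = ψ P') (hw : tb m 3 = true → cj (φ W) γ = ψ W') (hq : tb m 2 = true → cj (φ Q) γ = ψ Q') (hv : tb m 1 = true → cj (φ V) γ = ψ V') (hy : tb m 0 = true → cj (φ Y) γ = ψ Y') {u : El MC} (hu : El.In m u) :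
    cj (φ u) γ = ψ (sb T' P' W' Q' V' Y' u) := by
  refine El.actM φ ψ γ _ m (fun i hi => ?_) hu
  change i < 6 at hi
  interval_cases i <;> assumption

theorem act {Γ Ξ : Type*} [Group Γ] [Group Ξ] (φ : El MC  →* Γ) (ψ : Ξ  →* Γ) (γ : Γ) {T' P' W' Q' V' Y' : Ξ}
    (ht : cj (φ T) γ = ψ T') (hp : cj (φ P) γ = ψ P') (hw : cj (φ W) γ = ψ W') (hq : cj (φ Q) γ = ψ Q') (hv : cj (φ V) γ = ψ V') (hy : cj (φ Y) γ = ψ Y') (u : El MC) :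
    cj (φ u) γ = ψ (sb T' P' W' Q' V' Y' u) := by
  refine El.act φ ψ γ _ (fun i hi => ?_) u
  change i < 6 at hi
  interval_cases i <;> assumption

theorem memM {Γ : Type*} [Group Γ] (φ : El MC  →* Γ) {Λ : Subgroup Γ} (m : ℕ)
    (ht : tb m 5 = true → φ T ∈ Λ) (hp : tb m 4 = true → φ P ∈ Λ) (hw : tb m 3 = true → φ W ∈ Λ) (hq : tb m 2 = true → φ Q ∈ Λ) (hv : tb m 1 = true → φ V ∈ Λ) (hy : tb m 0 = true → φ Y ∈ Λ) {u : El MC} (hu : El.In m u) : φ u ∈ Λ := by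
  refine El.memM φ m (fun i hi => ?_) hu
  change i < 6 at hi
  interval_cases i <;> assumption

theorem mem {Γ : Type*} [Group Γ] (φ : El MC  →* Γ) {Λ : Subgroup Γ}
    (ht : φ T ∈ Λ) (hp : φ P ∈ Λ) (hw : φ W ∈ Λ) (hq : φ Q ∈ Λ) (hv : φ V ∈ Λ) (hy : φ Y ∈ Λ) (u : El MC) : φ u ∈ Λ := by
  refine El.mem φ (fun i hi => ?_) u
  change i < 6 at hi
  interval_cases i <;> assumption

theorem inj {Γ : Type*} [Group Γ] (φ : El MC  →* Γ)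
    (h0 : φ Y ≠ 1) : Function.Injective φ := by
  refine El.inj φ [Y] (by decide +kernel) fun z hz => ?_
  simp only [List.mem_cons, List.not_mem_nil, or_false] at hz
  rcases hz with rfl <;> simpa only [map_mul]

theorem qex {Γ : Type*} [Group Γ] (N : Subgroup Γ) {t p w q v y : Γ}
    (hn : t ∈ Subgroup.normalizer (N : Set Γ) ∧ p ∈ Subgroup.normalizer (N : Set Γ) ∧ w ∈ Subgroup.normalizer (N : Set Γ) ∧ q ∈ Subgroup.normalizer (N : Set Γ) ∧ v ∈ Subgroup.normalizer (N : Set Γ) ∧ y ∈ Subgroup.normalizer (N : Set Γ))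
    (h : y * y ∈ N ∧ v * v ∈ N ∧ (cj y v)⁻¹ * (y) ∈ N ∧ q * q ∈ N ∧ (cj y q)⁻¹ * (y) ∈ N ∧ (cj v q)⁻¹ * (v) ∈ N ∧ w * w ∈ N ∧ (cj y w)⁻¹ * (y) ∈ N ∧ (cj v w)⁻¹ * (v * y) ∈ N ∧ (cj q w)⁻¹ * (q) ∈ N ∧ p * p ∈ N ∧ (cj y p)⁻¹ * (y) ∈ N ∧ (cj v p)⁻¹ * (q * (v * y)) ∈ N ∧ (cj q p)⁻¹ * (q) ∈ N ∧ (cj w p)⁻¹ * (w) ∈ N ∧ t * t ∈ N ∧ (cj y t)⁻¹ * (y) ∈ N ∧ (cj v t)⁻¹ * (v) ∈ N ∧ (cj q t)⁻¹ * (q * y) ∈ N ∧ (cj w t)⁻¹ * (w) ∈ N ∧ (cj p t)⁻¹ * (p * w) ∈ N)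
    (hz : y ∉ N) :
    ∃ R : Γ → El MC → Prop, QM N R ∧ R t T ∧ R p P ∧ R w W ∧ R q Q ∧ R v V ∧ R y Y := by
  obtain ⟨nt, np, nw, nq, nv, ny⟩ := hn
  obtain ⟨h0_0, h1_1, h1_0, h2_2, h2_0, h2_1, h3_3, h3_0, h3_1, h3_2, h4_4, h4_0, h4_1, h4_2, h4_3, h5_5, h5_0, h5_1, h5_2, h5_3, h5_4⟩ := h
  obtain ⟨ψ, et, ep, ew, eq, ev, ey⟩ := ex (t := qp N ⟨t, nt⟩) (p := qp N ⟨p, np⟩) (w := qp N ⟨w, nw⟩) (q := qp N ⟨q, nq⟩) (v := qp N ⟨v, nv⟩) (y := qp N ⟨y, ny⟩) ⟨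
    (map_mul (qp N) ⟨y, ny⟩ ⟨y, ny⟩).symm.trans ((qone _).2 h0_0),
    (map_mul (qp N) ⟨v, nv⟩ ⟨v, nv⟩).symm.trans ((qone _).2 h1_1),
    (map_cj (qp N) ⟨y, ny⟩ ⟨v, nv⟩).symm.trans (qrel _ _ h1_0),
    (map_mul (qp N) ⟨q, nq⟩ ⟨q, nq⟩).symm.trans ((qone _).2 h2_2),
    (map_cj (qp N) ⟨y, ny⟩ ⟨q, nq⟩).symm.trans (qrel _ _ h2_0),
    (map_cj (qp N) ⟨v, nv⟩ ⟨q, nq⟩).symm.trans (qrel _ _ h2_1),
    (map_mul (qp N) ⟨w, nw⟩ ⟨w, nw⟩).symm.trans ((qone _).2 h3_3),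
    (map_cj (qp N) ⟨y, ny⟩ ⟨w, nw⟩).symm.trans (qrel _ _ h3_0),
    (map_cj (qp N) ⟨v, nv⟩ ⟨w, nw⟩).symm.trans ((qrel _ (⟨v, nv⟩ * ⟨y, ny⟩) h3_1).trans (by simp only [map_mul])),
    (map_cj (qp N) ⟨q, nq⟩ ⟨w, nw⟩).symm.trans (qrel _ _ h3_2),
    (map_mul (qp N) ⟨p, np⟩ ⟨p, np⟩).symm.trans ((qone _).2 h4_4),
    (map_cj (qp N) ⟨y, ny⟩ ⟨p, np⟩).symm.trans (qrel _ _ h4_0),
    (map_cj (qp N) ⟨v, nv⟩ ⟨p, np⟩).symm.trans ((qrel _ (⟨q, nq⟩ * (⟨v, nv⟩ * ⟨y, ny⟩)) h4_1).trans (by simp only [map_mul])),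
    (map_cj (qp N) ⟨q, nq⟩ ⟨p, np⟩).symm.trans (qrel _ _ h4_2),
    (map_cj (qp N) ⟨w, nw⟩ ⟨p, np⟩).symm.trans (qrel _ _ h4_3),
    (map_mul (qp N) ⟨t, nt⟩ ⟨t, nt⟩).symm.trans ((qone _).2 h5_5),
    (map_cj (qp N) ⟨y, ny⟩ ⟨t, nt⟩).symm.trans (qrel _ _ h5_0),
    (map_cj (qp N) ⟨v, nv⟩ ⟨t, nt⟩).symm.trans (qrel _ _ h5_1),
    (map_cj (qp N) ⟨q, nq⟩ ⟨t, nt⟩).symm.trans ((qrel _ (⟨q, nq⟩ * ⟨y, ny⟩) h5_2).trans (by simp only [map_mul])),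
    (map_cj (qp N) ⟨w, nw⟩ ⟨t, nt⟩).symm.trans (qrel _ _ h5_3),
    (map_cj (qp N) ⟨p, np⟩ ⟨t, nt⟩).symm.trans ((qrel _ (⟨p, np⟩ * ⟨w, nw⟩) h5_4).trans (by simp only [map_mul]))⟩
  exact ⟨_, QM.of_hom ψ (inj ψ (by
    rw [ey]
    exact fun h => hz ((qone _).1 h))), ⟨nt, et.symm⟩, ⟨np, ep.symm⟩, ⟨nw, ew.symm⟩, ⟨nq, eq.symm⟩, ⟨nv, ev.symm⟩, ⟨ny, ey.symm⟩⟩

end MC

end CF.Fz
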